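import Groth.Agent.LoccohB.LocGen
import Groth.Agent.PerfA.Neeman
import Groth.Agent.CohtopB.FinFactor
import Groth.Agent.DRing.K229.PerfInd

/-!
# Compact objects of `D(A)` are the perfect objects
-/

set_option autoImplicit false

universe u

open CategoryTheory CategoryTheory.Limits CategoryTheory.Pretriangulated

attribute [local instance] HasDerivedCategory.standard

namespace K228.Compact

open Groth.Agent.CohtopA.Compact Groth.Agent.CohtopA.BrownW Groth.Agent.LoccohB.LocGen

variable {A : Type u} [CommRing A]

/-- Compactness tested on the canonical maps. -/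
theorem isCompactW_iff (K : Dual.D A) :
    (∀ (I : Type u) (E : I → Dual.D A) [HasCoproduct fun i : ULift.{u + 1} I => E i.down],
      Function.Bijective (CohDer.homSumToHomCoprod K (fun i : ULift.{u + 1} I => E i.down))) ↔
    IsCompactW.{u} K := by
  classical
  constructor
  · intro h ι X c hc f
    let c' : Cofan (fun i : ULift.{u + 1} ι => X i.down) :=
      Cofan.mk c.pt (fun i => c.inj i.down)
    let hc' : IsColimit c' := Cofan.IsColimit.mk _
      (fun s => Cofan.IsColimit.desc hc (fun i => s.inj ⟨i⟩))
      (fun s j => Cofan.IsColimit.fac hc _ _)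
      (fun s m hm => Cofan.IsColimit.hom_ext hc _ _ (fun i => by
        rw [Cofan.IsColimit.fac hc]
        exact hm ⟨i⟩))
    have : HasCoproduct (fun i : ULift.{u + 1} ι => X i.down) := ⟨⟨⟨c', hc'⟩⟩⟩
    have h1 := (Groth.Agent.CohtopB.FinFactor.homSumToHomCoprod_bijective_iff K _).1 (h ι X)
    obtain ⟨s, g, hg⟩ := IsFiniteSum.of_iso (coproductIsCoproduct _) hc' (fun f => h1 f) f
    refine ⟨s.map Equiv.ulift.toEmbedding, fun i => g ⟨i⟩, ?_⟩
    rw [Finset.sum_map]
    exact hg
  · intro h I E _
    rw [Groth.Agent.CohtopB.FinFactor.homSumToHomCoprod_bijective_iff]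
    exact fun f => isFiniteSum_of_isCompactW h (coproductIsCoproduct _) f

theorem isCompactObjRel_of_isCompactW {K : Dual.D A} (h : IsCompactW.{u} K) :
    PerfAux.IsCompactObjRel.{u} (⊤ : ObjectProperty (Dual.D A)) K := by
  rw [Groth.Agent.PerfA.CompactRel.isCompactObjRel_iff]
  intro ι X _ _ f
  exact h ι X _ (coproductIsCoproduct X) f

/-- Compact objects of `D(A)` are perfect. -/
theorem isPerfect_of_isCompactW {K : Dual.D A} (h : IsCompactW.{u} K) : DRing.IsPerfect A K := by
  have hg := generates_inD (A := A)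
  refine Groth.Agent.PerfA.Neeman.prop_of_isCompactObjRel (Q := (⊤ : ObjectProperty (Dual.D A)))
    (fun _ _ _ => trivial) (fun _ : PUnit.{u + 1} => Dual.inD A A) (fun _ => trivial)
    (fun _ m X _ => inferInstance) (fun X _ h => ?_)
    (fun _ => isCompactObjRel_of_isCompactW isCompactW_inD) (K229.PerfInd.perf A)
    (fun _ => Groth.Agent.LoccohB.PerfTri.isPerfect_inD_of_projective (A := A) A) K trivial
    (isCompactObjRel_of_isCompactW h)
  apply hg
  intro k n f
  have h1 := h k (-n) (((shiftEquiv' (Dual.D A) (-n) n (neg_add_cancel n)).toAdjunction.homEquiv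
    (Dual.inD A A) X).symm f)
  refine (Equiv.apply_symm_apply ((shiftEquiv' (Dual.D A) (-n) n
    (neg_add_cancel n)).toAdjunction.homEquiv (Dual.inD A A) X) f).symm.trans
    ((congrArg _ h1).trans ?_)
  rw [Adjunction.homEquiv_unit]
  exact (congrArg (fun t => _ ≫ t) (Functor.map_zero (shiftFunctor (Dual.D A) n) _ _)).trans comp_zero

end K228.Compact
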