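import Groth.Agent.LoccohB.PerfTri
import Mathlib.Algebra.Homology.DerivedCategory.TStructure
import Mathlib.Algebra.Homology.DerivedCategory.KProjective

/-!
# Basic tools on D(A): amplitude, maps out of complexes of projectives
-/

set_option autoImplicit false

universe u

open CategoryTheory CategoryTheory.Limits CategoryTheory.Pretriangulated

attribute [local instance] HasDerivedCategory.standard

namespace K228.Basic

open DerivedCategory

variable {A : Type u} [CommRing A]

/-- Maps in `D(A)` out of a K-projective complex come from maps of complexes. -/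
lemma exists_Q_map {K L : DRing.Cx A} [K.IsKProjective] (g : DRing.toD K ⟶ DRing.toD L) :
    ∃ f : K ⟶ L, Q.map f = g := by
  obtain ⟨g', hg'⟩ := (CochainComplex.IsKProjective.Qh_map_bijective K
    ((HomotopyCategory.quotient _ _).obj L)).surjective
    ((quotientCompQhIso (ModuleCat.{u} A)).hom.app K ≫ g ≫
      (quotientCompQhIso (ModuleCat.{u} A)).inv.app L)
  obtain ⟨f, rfl⟩ := (HomotopyCategory.quotient _ _).map_surjective g'
  refine ⟨f, ?_⟩
  have h := (quotientCompQhIso (ModuleCat.{u} A)).inv.naturality f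
  have h' : (quotientCompQhIso (ModuleCat.{u} A)).inv.app K ≫
    Qh.map ((HomotopyCategory.quotient _ _).map f) = Q.map f ≫
      (quotientCompQhIso (ModuleCat.{u} A)).inv.app L := h.symm
  rw [hg', Iso.inv_hom_id_app_assoc] at h'
  exact ((cancel_mono _).1 h').symm

lemma isLE_of_subsingleton (K : Dual.D A) (n : ℤ)
    (h : ∀ i : ℤ, n < i → Subsingleton (Dual.HD A K i)) : K.IsLE n := by
  rw [isLE_iff]
  exact fun i hi => ModuleCat.isZero_of_iff_subsingleton.2 (h i hi)

lemma isGE_of_subsingleton (K : Dual.D A) (n : ℤ)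
    (h : ∀ i : ℤ, i < n → Subsingleton (Dual.HD A K i)) : K.IsGE n := by
  rw [isGE_iff]
  exact fun i hi => ModuleCat.isZero_of_iff_subsingleton.2 (h i hi)

lemma subsingleton_of_isLE (K : Dual.D A) (n : ℤ) (h : K.IsLE n) (i : ℤ) (hi : n < i) :
    Subsingleton (Dual.HD A K i) :=
  ModuleCat.isZero_of_iff_subsingleton.1 ((isLE_iff K n).1 h i hi)

lemma subsingleton_of_isGE (K : Dual.D A) (n : ℤ) (h : K.IsGE n) (i : ℤ) (hi : i < n) :
    Subsingleton (Dual.HD A K i) :=
  ModuleCat.isZero_of_iff_subsingleton.1 ((isGE_iff K n).1 h i hi)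

/-- No maps from complexes of projectives in degrees `≥ a` to complexes with cohomology in
degrees `< a`. -/
theorem subsingleton_hom (a b : ℤ) (L : Dual.D A)
    (hL : ∃ P : DRing.Cx A, DRing.VanishesOutside P a b ∧ (∀ i : ℤ, Module.Projective A (P.X i)) ∧
      Nonempty (DRing.toD P ≅ L)) (K : Dual.D A)
    (hK : ∀ i : ℤ, a ≤ i → Subsingleton (Dual.HD A K i)) : Subsingleton (L ⟶ K) := by
  obtain ⟨P, hP, hP', ⟨e⟩⟩ := hL
  have hKP : P.IsKProjective :=
    Groth.Agent.LoccohB.PerfTri.isKProjective_of_vanishesAbove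
      (fun i hi => hP i (Or.inr hi)) hP'
  have hle : K.IsLE (a - 1) := isLE_of_subsingleton K _ fun i hi => hK i (by omega)
  obtain ⟨K', hK', ⟨e'⟩⟩ := exists_iso_Q_obj_of_isLE K (a - 1)
  suffices h : ∀ g : DRing.toD P ⟶ DRing.toD K', g = 0 by
    refine ⟨fun f g => ?_⟩
    have h1 := h (e.hom ≫ f ≫ e'.hom)
    have h2 := h (e.hom ≫ g ≫ e'.hom)
    rw [← cancel_epi e.hom, ← cancel_mono e'.hom]
    simp only [Category.assoc]
    exact h1.trans h2.symm
  intro g
  obtain ⟨f, rfl⟩ := exists_Q_map g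
  have : f = 0 := by
    ext i : 1
    by_cases hi : i < a
    · exact (hP i (Or.inl hi)).eq_of_src _ _
    · exact (CochainComplex.isZero_of_isStrictlyLE K' (a - 1) i (by omega)).eq_of_tgt _ _
  rw [this]
  exact Q.map_zero _ _

end K228.Basic
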