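import Groth.Agent.Ega3B.LiftFibre
import Groth.Agent.PerfC.RingPerf
import Groth.Agent.DRing.K228.Basic
import Groth.Agent.LoccohB.KProj
import Groth.Agent.LoccohB.LBC2

/-!
# Splitting of complexes of finite projectives from vanishing of fibre cohomology
-/

set_option autoImplicit false

universe u

open CategoryTheory CategoryTheory.Limits TensorProduct

attribute [local instance] HasDerivedCategory.standard

namespace K228.FibreSplit

section Field

variable {R κ : Type*} [CommRing R] [Field κ] [Algebra R κ] {M N : Type*} [AddCommGroup M]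
  [Module R M] [AddCommGroup N] [Module R N]

instance ker_isPrime : (RingHom.ker (algebraMap R κ)).IsPrime := RingHom.ker_isPrime _

/-- Injectivity over a field `κ` implies injectivity over the residue field of the kernel. -/
theorem lTensor_residueField_injective (l : M →ₗ[R] N) (h : Function.Injective (l.lTensor κ)) :
    Function.Injective (l.lTensor (RingHom.ker (algebraMap R κ)).ResidueField) := by
  let p := RingHom.ker (algebraMap R κ)
  have hp : p.primeCompl ≤ (IsUnit.submonoid κ).comap (algebraMap R κ) := by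
    intro x hx
    have hx' : algebraMap R κ x ≠ 0 := hx
    exact (isUnit_iff_ne_zero.2 hx')
  let f : p.ResidueField →+* κ := Ideal.ResidueField.lift p (algebraMap R κ) le_rfl hp
  algebraize [f]
  have : IsScalarTower R p.ResidueField κ := IsScalarTower.of_algebraMap_eq fun x =>
    (Ideal.ResidueField.lift_algebraMap p (algebraMap R κ) le_rfl hp x).symm
  obtain ⟨g, hg⟩ := (Algebra.linearMap p.ResidueField κ).exists_leftInverse_of_injective
    (LinearMap.ker_eq_bot.2 (algebraMap p.ResidueField κ).injective)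
  let j : p.ResidueField →ₗ[R] κ := (Algebra.linearMap p.ResidueField κ).restrictScalars R
  let g' : κ →ₗ[R] p.ResidueField := g.restrictScalars R
  have hj : g' ∘ₗ j = LinearMap.id := by
    ext x
    exact LinearMap.congr_fun hg x
  have hjM : Function.Injective (j.rTensor M) := by
    refine Function.LeftInverse.injective (g := g'.rTensor M) fun x => ?_
    rw [← LinearMap.comp_apply, ← LinearMap.rTensor_comp, hj, LinearMap.rTensor_id]
    rfl
  have h1 : Function.Injective ((l.lTensor κ) ∘ₗ (j.rTensor M)) := h.comp hjM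
  rw [LinearMap.lTensor_comp_rTensor, ← LinearMap.rTensor_comp_lTensor] at h1
  exact Function.Injective.of_comp h1

/-- Retraction up to an element outside the kernel of `R → κ`. -/
theorem exists_retraction [Module.Finite R M] [Module.Finite R N] [Module.Projective R N]
    (l : M →ₗ[R] N) (h : Function.Injective (l.lTensor κ)) :
    ∃ (s : R) (r : N →ₗ[R] M), algebraMap R κ s ≠ 0 ∧ r ∘ₗ l = s • LinearMap.id := by
  obtain ⟨s, r, hs, hr⟩ := Groth.Agent.Ega3B.LiftFibre.exists_retraction
    (RingHom.ker (algebraMap R κ)) l (lTensor_residueField_injective l h)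
  exact ⟨s, r, hs, hr⟩

/-- version with `IsField`. -/
theorem exists_retraction' {R κ : Type*} [CommRing R] [CommRing κ] (hκ : IsField κ)
    [Algebra R κ] {M N : Type*} [AddCommGroup M]
    [Module R M] [AddCommGroup N] [Module R N]
    [Module.Finite R M] [Module.Finite R N] [Module.Projective R N]
    (l : M →ₗ[R] N) (h : Function.Injective (l.lTensor κ)) :
    ∃ (s : R) (r : N →ₗ[R] M), algebraMap R κ s ≠ 0 ∧ r ∘ₗ l = s • LinearMap.id := by
  let _ : Field κ := hκ.toField
  exact exists_retraction (κ := κ) l h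

/-- The ideal of `s` such that `s` times the identity factors through `l`. -/
def retrIdeal (l : M →ₗ[R] N) : Ideal R where
  carrier := {s | ∃ r : N →ₗ[R] M, r ∘ₗ l = s • LinearMap.id}
  zero_mem' := ⟨0, by simp⟩
  add_mem' := by
    rintro s t ⟨r, hr⟩ ⟨r', hr'⟩
    exact ⟨r + r', by rw [LinearMap.add_comp, hr, hr', add_smul]⟩
  smul_mem' := by
    rintro c s ⟨r, hr⟩
    exact ⟨c • r, by rw [LinearMap.smul_comp, hr, smul_smul, smul_eq_mul]⟩

omit [Field κ] [Algebra R κ] in
theorem exists_retraction_of_forall (l : M →ₗ[R] N)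
    (h : ∀ m : Ideal R, m.IsMaximal → ∃ (s : R) (r : N →ₗ[R] M), s ∉ m ∧
      r ∘ₗ l = s • LinearMap.id) : ∃ r : N →ₗ[R] M, r ∘ₗ l = LinearMap.id := by
  have h1 : retrIdeal l = ⊤ := by
    by_contra hne
    obtain ⟨m, hm, hle⟩ := Ideal.exists_le_maximal _ hne
    obtain ⟨s, r, hs, hr⟩ := h m hm
    exact hs (hle ⟨r, hr⟩)
  obtain ⟨r, hr⟩ := (Ideal.eq_top_iff_one _).1 h1
  exact ⟨r, by rw [hr, one_smul]⟩

end Field

section Complex

open DerivedCategory Groth.Agent.LoccohB Groth.Agent.PerfC.RingPerf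

variable {R : Type u} [CommRing R] (E : DRing.Cx R)

lemma d_eq (i j : ℤ) : E.pOpcycles i ≫ E.fromOpcycles i j = E.d i j :=
  E.p_fromOpcycles i j

lemma pOpcycles_surjective (i : ℤ) : Function.Surjective (E.pOpcycles i).hom :=
  (ModuleCat.epi_iff_surjective _).1 inferInstance

lemma finite_opcycles (i : ℤ) [Module.Finite R (E.X i)] : Module.Finite R (E.opcycles i) :=
  Module.Finite.of_surjective _ (pOpcycles_surjective E i)

lemma pOpcycles_eq_zero_iff (i : ℤ) (x : E.X i) :
    (E.pOpcycles i).hom x = 0 ↔ ∃ y : E.X (i - 1), (E.d (i - 1) i).hom y = x := by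
  have hc := E.opcyclesIsCokernel (i - 1) i (by simp)
  have h1 : (ShortComplex.mk (E.d (i - 1) i) (E.pOpcycles i) (E.d_pOpcycles (i - 1) i)).Exact :=
    ShortComplex.exact_of_g_is_cokernel _ hc
  rw [ShortComplex.moduleCat_exact_iff] at h1
  constructor
  · intro h
    exact h1 x h
  · rintro ⟨y, rfl⟩
    have := E.d_pOpcycles (i - 1) i
    exact congr($(this).hom y)

section Fibre

variable {κ : Type u} [CommRing κ] (φ : R →+* κ)

/-- Vanishing of `H^i(E ⊗ κ)` gives injectivity of `κ ⊗ coker(d^{i-1}) → κ ⊗ E^{i+1}`. -/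
theorem lTensor_fromOpcycles_injective (i : ℤ)
    (h : (((ModuleCat.extendScalars.{u, u, u} φ).mapHomologicalComplex (ComplexShape.up ℤ)).obj E).ExactAt i) :
    letI := φ.toAlgebra
    Function.Injective ((E.fromOpcycles i (i + 1)).hom.lTensor κ) := by
  let := φ.toAlgebra
  rw [KProj.exactAt_iff_elem] at h
  rw [injective_iff_map_eq_zero]
  intro z hz
  obtain ⟨z', rfl⟩ := LinearMap.lTensor_surjective κ (pOpcycles_surjective E i) z
  have h1 : (E.d i (i + 1)).hom.lTensor κ z' = 0 := by
    rw [← d_eq, ModuleCat.hom_comp, LinearMap.lTensor_comp]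
    exact hz
  obtain ⟨y, hy'⟩ : ∃ y : κ ⊗[R] (E.X (i - 1)), (E.d (i - 1) i).hom.lTensor κ y = z' := h z' h1
  rw [← hy', ← LinearMap.comp_apply, ← LinearMap.lTensor_comp, ← ModuleCat.hom_comp,
    E.d_pOpcycles]
  simp

theorem exists_retraction_of_exactAt (hκ : IsField κ) (hE : DRing.TermwiseFiniteProjective E) (i : ℤ)
    (h : (((ModuleCat.extendScalars.{u, u, u} φ).mapHomologicalComplex (ComplexShape.up ℤ)).obj E).ExactAt i) :
    ∃ (s : R) (r : E.X (i + 1) →ₗ[R] E.opcycles i), φ s ≠ 0 ∧
      r ∘ₗ (E.fromOpcycles i (i + 1)).hom = s • LinearMap.id := by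
  let := φ.toAlgebra
  have h1 := (hE i).1
  have h2 := (hE (i + 1)).1
  have h3 := (hE (i + 1)).2
  have h4 := finite_opcycles E i
  exact exists_retraction' (κ := κ) hκ _ (lTensor_fromOpcycles_injective E φ i h)

/-- translation of the vanishing of fibre cohomology. -/
lemma exactAt_ext [DRing.HasLBaseChange φ] [E.IsKProjective] {K : Dual.D R} (e : DRing.toD E ≅ K) (i : ℤ)
    (h : Subsingleton (Dual.HD κ ((DRing.LBaseChange φ).obj K) i)) :
    (((ModuleCat.extendScalars.{u, u, u} φ).mapHomologicalComplex (ComplexShape.up ℤ)).obj E).ExactAt i := by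
  rw [HomologicalComplex.exactAt_iff_isZero_homology]
  have h1 : IsZero ((DerivedCategory.homologyFunctor (ModuleCat.{u} κ) i).obj
      ((DRing.LBaseChange φ).obj K)) := ModuleCat.isZero_of_iff_subsingleton.2 h
  refine h1.of_iso (((DerivedCategory.homologyFunctorFactors (ModuleCat.{u} κ) i).app _).symm ≪≫
    (DerivedCategory.homologyFunctor (ModuleCat.{u} κ) i).mapIso ?_)
  exact (LBC.lbcQIso φ E).symm ≪≫ (DRing.LBaseChange φ).mapIso e

end Fibre

section Split

variable {E} {i : ℤ} {r : E.X (i + 1) →ₗ[R] E.opcycles i}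
  (hr : r ∘ₗ (E.fromOpcycles i (i + 1)).hom = LinearMap.id)

include hr

lemma exactAt_of_retraction : E.ExactAt i := by
  rw [KProj.exactAt_iff_elem]
  intro z hz
  refine (pOpcycles_eq_zero_iff E i z).1 ?_
  have h1 : (E.fromOpcycles i (i + 1)).hom ((E.pOpcycles i).hom z) = 0 := by
    have : (E.fromOpcycles i (i + 1)).hom ((E.pOpcycles i).hom z) = (E.d i (i + 1)).hom z :=
      congr($(d_eq E i (i + 1)).hom z)
    rw [this]
    exact hz
  have h2 := LinearMap.congr_fun hr ((E.pOpcycles i).hom z)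
  rw [LinearMap.comp_apply, h1, map_zero] at h2
  exact h2.symm

lemma finProj_of_retraction (hE : DRing.TermwiseFiniteProjective E) :
    finProj R (E.opcycles (i + 1)) := by
  refine opcycles_of_section E (i + 1) hE ?_
  let r' : E.X (i + 1) ⟶ E.opcycles i := ModuleCat.ofHom r
  have hr' : E.fromOpcycles i (i + 1) ≫ r' = 𝟙 _ := ModuleCat.hom_ext hr
  refine ⟨E.descOpcycles (𝟙 _ - r' ≫ E.fromOpcycles i (i + 1)) i (by simp) ?_, ?_⟩
  · rw [Preadditive.comp_sub, Category.comp_id, ← d_eq E i (i + 1), Category.assoc,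
      reassoc_of% hr', sub_self]
  · have : E.fromOpcycles i (i + 1) ≫ E.pOpcycles (i + 1) = 0 := by
      rw [← cancel_epi (E.pOpcycles i), reassoc_of% (d_eq E i (i + 1)), E.d_pOpcycles, comp_zero]
    rw [← cancel_epi (E.pOpcycles (i + 1)), HomologicalComplex.p_descOpcycles_assoc,
      Preadditive.sub_comp, Category.id_comp, Category.assoc, this, comp_zero, sub_zero,
      Category.comp_id]

end Split

/-- Truncation of a complex of finite projectives with projective `opcycles`. -/
lemma exists_trunc (F : DRing.Cx R) (n b : ℤ) (hb : DRing.VanishesAbove F b)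
    (hF : DRing.TermwiseFiniteProjective F) (h0 : ∀ i, i < n → F.ExactAt i)
    (hn : finProj R (F.opcycles n)) :
    ∃ E : DRing.Cx R, DRing.VanishesOutside E n b ∧ DRing.TermwiseFiniteProjective E ∧
      Nonempty (DRing.toD E ≅ DRing.toD F) := by
  obtain ⟨e⟩ := Groth.Agent.Dcoh.BddCx.nonempty_iso_truncGE F (DRing.toD F) n
    (fun i hi => ((HomologicalComplex.exactAt_iff_isZero_homology _ _).1 (h0 i hi)).of_iso
      ((DerivedCategory.homologyFunctorFactors (ModuleCat.{u} R) i).app F))
    (𝟙 _) (fun i _ => by rw [CategoryTheory.Functor.map_id]; infer_instance)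
  refine ⟨F.truncGE n, ?_, ?_, ⟨e.symm⟩⟩
  · rintro i (hi | hi)
    · exact (F.truncGE n).isZero_of_isStrictlyGE n i hi
    · exact Groth.Agent.Dcoh.BddCx.truncGE_isZero_of_lt F n b hb i hi
  · exact fun i => Groth.Agent.Dcoh.BddCx.prop_truncGE_X (P := finProj R)
      (fun _ h => finProj_of_isZero h) F n hn (fun i _ => hF i) i

/-- Perfect of amplitude `[a, b]`. -/
lemma isPerfect_and_torAmp {K : Dual.D R} {a b : ℤ} (h : ∃ E : DRing.Cx R,
    DRing.VanishesOutside E a b ∧ DRing.TermwiseFiniteProjective E ∧ Nonempty (DRing.toD E ≅ K)) :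
    DRing.IsPerfect R K ∧ DRing.HasTorAmplitudeIn R a b K := by
  obtain ⟨E, h1, h2, h3⟩ := h
  refine ⟨⟨E, a, b, h1, h2, h3⟩, E, h1, fun i => ?_, h3⟩
  have := (h2 i).2
  exact Module.Flat.of_projective

/-- Pseudo-coherent objects with cohomology in degrees `≤ b` are represented by complexes of
finite free modules in degrees `≤ b`. -/
lemma exists_rep {K : Dual.D R} (hK : DRing.IsPseudoCoherent' R K) (b : ℤ)
    (hb : ∀ i : ℤ, b < i → Subsingleton (Dual.HD R K i)) :
    ∃ E : DRing.Cx R, DRing.VanishesAbove E b ∧ DRing.TermwiseFiniteFree E ∧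
      Nonempty (DRing.toD E ≅ K) := by
  have h1 := (Groth.Agent.S2066.result K).1.2 hK
  obtain ⟨E, h2, h3, h4⟩ := Groth.Agent.CalgB.PsCohGen.exists_resolution_of_forall_PC
    (Groth.Agent.CalgB.PsCoh.isProjClass_ffree R) K h1 b (K228.Basic.isLE_of_subsingleton K b hb)
  exact ⟨E, h3, h2, h4⟩

lemma termwiseFiniteProjective_of_free (hE : DRing.TermwiseFiniteFree E) :
    DRing.TermwiseFiniteProjective E := fun i => by
  obtain ⟨h1, h2⟩ := hE i
  exact ⟨h1, inferInstance⟩

end Complex

end K228.FibreSplit
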