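import Groth.Agent.CalgB.PsCoh
import Groth.Agent.DRing.K228.Basic
import Groth.Agent.Models2.ModuleFP
import Mathlib.Algebra.Homology.DerivedCategory.TStructure
import Mathlib.Algebra.Homology.HomotopyCategory.HomComplexSingle

/-!
# Maps from pseudo-coherent objects to modules and filtered colimits
-/

set_option autoImplicit false

universe u

open CategoryTheory CategoryTheory.Limits CategoryTheory.Pretriangulated

attribute [local instance] HasDerivedCategory.standard

namespace K228.FiltColim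

open DerivedCategory Groth.Agent.CalgB.PsCohGen Groth.Agent.CalgB.PsCoh
open CochainComplex CochainComplex.HomComplex

variable {R : Type u} [CommRing R]

section single

variable {E : DRing.Cx R} (p : ℤ) {M N : ModuleCat.{u} R}

/-- The map to a single complex given by a morphism in degree `p`. -/
noncomputable def toS (a : E.X p ⟶ M) (ha : E.d (p - 1) p ≫ a = 0) :
    E ⟶ (CochainComplex.singleFunctor (ModuleCat.{u} R) p).obj M :=
  Cocycle.homOf (Cocycle.toSingleMk a (n := 0) (by omega) (p - 1) (by omega) ha)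

lemma toS_comp (a : E.X p ⟶ M) (ha : E.d (p - 1) p ≫ a = 0) (g : M ⟶ N) :
    toS p a ha ≫ (CochainComplex.singleFunctor (ModuleCat.{u} R) p).map g =
      toS p (a ≫ g) (by rw [reassoc_of% ha, zero_comp]) := by
  have h := Cocycle.toSingleMk_postcomp a (add_zero p) (p - 1) (by omega) ha g
  apply (Cocycle.equivHom _ _).injective
  change Cocycle.ofHom _ = Cocycle.ofHom _
  rw [toS, toS, Cocycle.ofHom_homOf_eq_self, h]
  ext : 1
  rw [Cocycle.postcomp_coe, Cocycle.ofHom_coe, Cochain.ofHom_comp,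
    Cocycle.cochain_ofHom_homOf_eq_coe]

lemma exists_toS (f : E ⟶ (CochainComplex.singleFunctor (ModuleCat.{u} R) p).obj M) :
    ∃ (a : E.X p ⟶ M) (ha : E.d (p - 1) p ≫ a = 0), toS p a ha = f := by
  obtain ⟨a, ha, h⟩ := Cocycle.toSingleMk_surjective (Cocycle.ofHom f) p (by omega) (p - 1)
    (by omega)
  refine ⟨a, ha, ?_⟩
  rw [toS, h, Cocycle.homOf_ofHom_eq_self]

lemma Q_map_eq_zero_iff {F : DRing.Cx R} [E.IsKProjective] (f : E ⟶ F) :
    Q.map f = 0 ↔ Nonempty (Homotopy f 0) := by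
  rw [← HomotopyCategory.quotient_map_eq_zero_iff]
  constructor
  · intro h
    have h1 : Qh.map ((HomotopyCategory.quotient _ _).map f) = 0 := by
      have h2 := (quotientCompQhIso (ModuleCat.{u} R)).hom.naturality f
      rw [h, comp_zero] at h2
      exact ((cancel_mono ((quotientCompQhIso (ModuleCat.{u} R)).hom.app F)).1
        (h2.trans zero_comp.symm))
    exact (CochainComplex.IsKProjective.Qh_map_bijective E
      ((HomotopyCategory.quotient _ _).obj F)).injective (h1.trans (Qh.map_zero _ _).symm)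
  · intro h
    have h2 := (quotientCompQhIso (ModuleCat.{u} R)).hom.naturality f
    have h3 : ((HomotopyCategory.quotient _ _) ⋙ Qh).map f = 0 := by
      rw [Functor.comp_map, h, Functor.map_zero]
    rw [h3, zero_comp] at h2
    exact ((cancel_epi ((quotientCompQhIso (ModuleCat.{u} R)).hom.app E)).1
        (h2.symm.trans comp_zero.symm))

lemma Q_map_toS_eq_zero_iff [E.IsKProjective] (a : E.X p ⟶ M) (ha : E.d (p - 1) p ≫ a = 0) :
    Q.map (toS p a ha) = 0 ↔ ∃ h : E.X (p + 1) ⟶ M, E.d p (p + 1) ≫ h = a := by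
  rw [Q_map_eq_zero_iff, ← Cocycle.toSingleMk_mem_coboundaries_iff a (add_zero p) (p - 1)
    (by omega) ha (p + 1) rfl, mem_coboundaries_iff _ (-1) (by omega),
    (Cochain.equivHomotopy _ _).nonempty_congr, nonempty_subtype]
  have h1 : Cochain.ofHom (toS p a ha) = (Cocycle.toSingleMk a (add_zero p) (p - 1)
    (by omega) ha : Cochain E _ 0) := Cocycle.cochain_ofHom_homOf_eq_coe _
  rw [h1]
  simp only [Cochain.ofHom_zero, add_zero]
  exact ⟨fun ⟨z, hz⟩ => ⟨z, hz.symm⟩, fun ⟨z, hz⟩ => ⟨z, hz.symm⟩⟩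

end single

section colim

variable {J : Type u} [SmallCategory J] [IsFiltered J] (F : J ⥤ ModuleCat.{u} R) (c : Cocone F)
  (hc : IsColimit c) (E : DRing.Cx R) [E.IsKProjective]
  (hE : ∀ i, Module.FinitePresentation R (E.X i)) (p : ℤ)

include hc hE in
theorem surj_E (x : Q.obj E ⟶ (DerivedCategory.singleFunctor (ModuleCat.{u} R) p).obj c.pt) :
    ∃ (j : J) (y : Q.obj E ⟶ (DerivedCategory.singleFunctor (ModuleCat.{u} R) p).obj (F.obj j)),
      y ≫ (DerivedCategory.singleFunctor (ModuleCat.{u} R) p).map (c.ι.app j) = x := by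
  have h1 : IsFinitelyPresentable.{u} (E.X p) :=
    Groth.Agent.Models2.ModuleFP.isFinitelyPresentable_of_finitePresentation _
  have h2 : IsFinitelyPresentable.{u} (E.X (p - 1)) :=
    Groth.Agent.Models2.ModuleFP.isFinitelyPresentable_of_finitePresentation _
  obtain ⟨f, rfl⟩ := K228.Basic.exists_Q_map
    (L := (CochainComplex.singleFunctor (ModuleCat.{u} R) p).obj c.pt) x
  obtain ⟨a, ha, rfl⟩ := exists_toS p f
  obtain ⟨j, b, rfl⟩ := IsFinitelyPresentable.exists_hom_of_isColimit hc a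
  obtain ⟨k, s, t, h⟩ := IsFinitelyPresentable.exists_eq_of_isColimit hc (E.d (p - 1) p ≫ b)
    (0 : E.X (p - 1) ⟶ F.obj j) (by rw [Category.assoc, ha, zero_comp])
  rw [zero_comp, Category.assoc] at h
  refine ⟨k, Q.map (toS p (b ≫ F.map s) h), ?_⟩
  change Q.map _ ≫ Q.map ((CochainComplex.singleFunctor (ModuleCat.{u} R) p).map _) = Q.map _
  rw [← Functor.map_comp, toS_comp]
  congr 2
  rw [Category.assoc, c.w]

include hc hE in
theorem inj_E (j : J)
    (y : Q.obj E ⟶ (DerivedCategory.singleFunctor (ModuleCat.{u} R) p).obj (F.obj j))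
    (hy : y ≫ (DerivedCategory.singleFunctor (ModuleCat.{u} R) p).map (c.ι.app j) = 0) :
    ∃ (j' : J) (f : j ⟶ j'),
      y ≫ (DerivedCategory.singleFunctor (ModuleCat.{u} R) p).map (F.map f) = 0 := by
  have h1 : IsFinitelyPresentable.{u} (E.X p) :=
    Groth.Agent.Models2.ModuleFP.isFinitelyPresentable_of_finitePresentation _
  have h2 : IsFinitelyPresentable.{u} (E.X (p + 1)) :=
    Groth.Agent.Models2.ModuleFP.isFinitelyPresentable_of_finitePresentation _
  obtain ⟨f, rfl⟩ := K228.Basic.exists_Q_map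
    (L := (CochainComplex.singleFunctor (ModuleCat.{u} R) p).obj (F.obj j)) y
  obtain ⟨a, ha, rfl⟩ := exists_toS p f
  change Q.map _ ≫ Q.map ((CochainComplex.singleFunctor (ModuleCat.{u} R) p).map _) = 0 at hy
  rw [← Functor.map_comp, toS_comp, Q_map_toS_eq_zero_iff] at hy
  obtain ⟨h, hh⟩ := hy
  obtain ⟨j', h', rfl⟩ := IsFinitelyPresentable.exists_hom_of_isColimit hc h
  obtain ⟨k, s, t, h3⟩ := IsFinitelyPresentable.exists_eq_of_isColimit hc a
    (E.d p (p + 1) ≫ h') (by rw [Category.assoc, hh])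
  refine ⟨k, s, ?_⟩
  change Q.map _ ≫ Q.map ((CochainComplex.singleFunctor (ModuleCat.{u} R) p).map _) = 0
  rw [← Functor.map_comp, toS_comp, Q_map_toS_eq_zero_iff]
  exact ⟨h' ≫ F.map t, by rw [h3, Category.assoc]⟩

end colim

/-- No maps from `D^{≤ n}` to modules in degree `> n`. -/
lemma hom_single_eq_zero {N : Dual.D R} {n p : ℤ} (hN : N.IsLE n) (hp : n < p)
    {M : ModuleCat.{u} R}
    (x : N ⟶ (DerivedCategory.singleFunctor (ModuleCat.{u} R) p).obj M) : x = 0 :=
  TStructure.t.zero_of_isLE_of_isGE x n p hp hN inferInstance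

lemma eq_of_comp_eq {E K N : Dual.D R} {α : E ⟶ K} {β : K ⟶ N}
    {γ : N ⟶ (CategoryTheory.shiftFunctor (Dual.D R) (1 : ℤ)).obj E}
    (hΔ : Triangle.mk α β γ ∈ distTriang (Dual.D R)) {n p : ℤ} (hN : N.IsLE n) (hp : n < p)
    {M : ModuleCat.{u} R} {x x' : K ⟶ (DerivedCategory.singleFunctor (ModuleCat.{u} R) p).obj M}
    (h : α ≫ x = α ≫ x') : x = x' := by
  obtain ⟨w, hw⟩ := Triangle.yoneda_exact₂ _ hΔ (x - x') (by
    change α ≫ (x - x') = 0
    rw [Preadditive.comp_sub, h, sub_self])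
  have h2 : w = 0 := hom_single_eq_zero hN hp w
  rw [h2, comp_zero] at hw
  exact sub_eq_zero.1 hw

lemma exists_comp_eq {E K N : Dual.D R} {α : E ⟶ K} {β : K ⟶ N}
    {γ : N ⟶ (CategoryTheory.shiftFunctor (Dual.D R) (1 : ℤ)).obj E}
    (hΔ : Triangle.mk α β γ ∈ distTriang (Dual.D R)) {n p : ℤ} (hN : N.IsLE n) (hp : n + 1 < p)
    {M : ModuleCat.{u} R} (y : E ⟶ (DerivedCategory.singleFunctor (ModuleCat.{u} R) p).obj M) :
    ∃ z : K ⟶ (DerivedCategory.singleFunctor (ModuleCat.{u} R) p).obj M, α ≫ z = y := by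
  have hN' : (N⟦(-1 : ℤ)⟧).IsLE (n + 1) :=
    @Triangulated.TStructure.isLE_shift _ _ _ _ _ _ _ TStructure.t N n (-1) (n + 1)
      (by omega) hN
  obtain ⟨z, hz⟩ := Triangle.yoneda_exact₂ _ (inv_rot_of_distTriang _ hΔ) y
    (hom_single_eq_zero hN' hp _)
  exact ⟨z, hz.symm⟩

section general

variable {m : ℤ} {K : Dual.D R} (hK : DRing.IsPseudoCoherent R m K)
  {J : Type u} [SmallCategory J] [IsFiltered J] (F : J ⥤ ModuleCat.{u} R) (c : Cocone F)
  (hc : IsColimit c) (p : ℤ)

include hc hK in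
theorem surj (hp : m < p)
    (x : K ⟶ (DerivedCategory.singleFunctor (ModuleCat.{u} R) p).obj c.pt) :
    ∃ (j : J) (y : K ⟶ (DerivedCategory.singleFunctor (ModuleCat.{u} R) p).obj (F.obj j)),
      y ≫ (DerivedCategory.singleFunctor (ModuleCat.{u} R) p).map (c.ι.app j) = x := by
  obtain ⟨E, b, N, α, β, γ, hΔ, hE, hE', hN⟩ := PC.exists_triangle (isProjClass_ffree R) hK
  have hEK : E.IsKProjective := Groth.Agent.LoccohB.PerfTri.isKProjective_of_vanishesAbove
    (fun i hi => hE i (Or.inr hi)) fun i => by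
      have := (hE' i).1
      have := (hE' i).2
      infer_instance
  have hfp : ∀ i, Module.FinitePresentation R (E.X i) := fun i => by
    have := (hE' i).1
    have := (hE' i).2
    exact Module.finitePresentation_of_projective R (E.X i)
  obtain ⟨j, y, hy⟩ := surj_E F c hc E hfp p (α ≫ x)
  obtain ⟨z, rfl⟩ := exists_comp_eq hΔ hN (by omega) y
  exact ⟨j, z, eq_of_comp_eq hΔ hN (by omega) ((Category.assoc _ _ _).symm.trans hy)⟩

include hc hK in
theorem inj (hp : m ≤ p) (j : J)
    (y : K ⟶ (DerivedCategory.singleFunctor (ModuleCat.{u} R) p).obj (F.obj j))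
    (hy : y ≫ (DerivedCategory.singleFunctor (ModuleCat.{u} R) p).map (c.ι.app j) = 0) :
    ∃ (j' : J) (f : j ⟶ j'),
      y ≫ (DerivedCategory.singleFunctor (ModuleCat.{u} R) p).map (F.map f) = 0 := by
  obtain ⟨E, b, N, α, β, γ, hΔ, hE, hE', hN⟩ := PC.exists_triangle (isProjClass_ffree R) hK
  have hEK : E.IsKProjective := Groth.Agent.LoccohB.PerfTri.isKProjective_of_vanishesAbove
    (fun i hi => hE i (Or.inr hi)) fun i => by
      have := (hE' i).1
      have := (hE' i).2
      infer_instance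
  have hfp : ∀ i, Module.FinitePresentation R (E.X i) := fun i => by
    have := (hE' i).1
    have := (hE' i).2
    exact Module.finitePresentation_of_projective R (E.X i)
  obtain ⟨j', f, hf⟩ := inj_E F c hc E hfp p j (α ≫ y) (by rw [Category.assoc, hy, comp_zero])
  exact ⟨j', f, eq_of_comp_eq hΔ hN (by omega)
    ((Category.assoc _ _ _).symm.trans (hf.trans comp_zero.symm))⟩

end general

end K228.FiltColim
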