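import Groth.Agent.LoccohB.FlatLBC
import Groth.Agent.LoccohB.PerfTri
import Groth.Agent.PerfB.DescRing

/-!
# Flat base change of pseudo-coherent objects and tor amplitude
-/

set_option autoImplicit false

universe u

open CategoryTheory CategoryTheory.Limits

attribute [local instance] HasDerivedCategory.standard

namespace K228.FlatBC

open DerivedCategory Groth.Agent.LoccohB

variable {A B : Type u} [CommRing A] [CommRing B] (φ : A →+* B) (hφ : φ.Flat)

/-- The base change of a complex. -/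
noncomputable abbrev ext : DRing.Cx A ⥤ DRing.Cx B :=
  (ModuleCat.extendScalars.{u, u, u} φ).mapHomologicalComplex (ComplexShape.up ℤ)

/-- `(Q E) ⊗ B = Q (E ⊗ B)` for flat `B`. -/
noncomputable def flatBCQ (E : DRing.Cx A) :
    (FlatLBC.flatBC φ hφ).obj (DRing.toD E) ≅ DRing.toD ((ext φ).obj E) :=
  haveI := ModuleCat.preservesFiniteLimits_extendScalars_of_flat hφ
  (ModuleCat.extendScalars.{u, u, u} φ).mapDerivedCategoryFactors.app E

theorem pc_flatBC {K : Dual.D A} {m : ℤ} (h : DRing.IsPseudoCoherent A m K) :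
    DRing.IsPseudoCoherent B m ((FlatLBC.flatBC φ hφ).obj K) :=
  haveI := ModuleCat.preservesFiniteLimits_extendScalars_of_flat hφ
  Groth.Agent.PerfB.DescRing.pc_baseChange φ h

theorem pc'_flatBC {K : Dual.D A} (h : DRing.IsPseudoCoherent' A K) :
    DRing.IsPseudoCoherent' B ((FlatLBC.flatBC φ hφ).obj K) := by
  obtain ⟨E, b, h1, h2, ⟨e⟩⟩ := h
  exact ⟨(ext φ).obj E, b, fun i hi => Functor.map_isZero (ModuleCat.extendScalars.{u, u, u} φ) (h1 i hi),
    fun i => Groth.Agent.PerfB.DescRing.finiteFree_ext φ _ (h2 i),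
    ⟨(flatBCQ φ hφ E).symm ≪≫ (FlatLBC.flatBC φ hφ).mapIso e⟩⟩

lemma flat_ext (M : ModuleCat.{u} A) (h : Module.Flat A M) :
    Module.Flat B ((ModuleCat.extendScalars.{u, u, u} φ).obj M) := by
  algebraize [φ]
  exact inferInstanceAs (Module.Flat B (TensorProduct A B M))

theorem hasTorAmplitudeIn_flatBC {K : Dual.D A} {a b : ℤ} (h : DRing.HasTorAmplitudeIn A a b K) :
    DRing.HasTorAmplitudeIn B a b ((FlatLBC.flatBC φ hφ).obj K) := by
  obtain ⟨E, h1, h2, ⟨e⟩⟩ := h
  exact ⟨(ext φ).obj E, fun i hi => Functor.map_isZero (ModuleCat.extendScalars.{u, u, u} φ) (h1 i hi),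
    fun i => flat_ext φ _ (h2 i),
    ⟨(flatBCQ φ hφ E).symm ≪≫ (FlatLBC.flatBC φ hφ).mapIso e⟩⟩

open TensorProduct in
/-- `(M[0]) ⊗ B = (B ⊗ M)[0]`. -/
noncomputable def flatBCinD {A B : Type u} [CommRing A] [CommRing B] [Algebra A B]
    (h : (algebraMap A B).Flat) (M : Type u) [AddCommGroup M] [Module A M] :
    (FlatLBC.flatBC (algebraMap A B) h).obj (Dual.inD A M) ≅ Dual.inD B (B ⊗[A] M) :=
  (FlatLBC.flatBCSingle (algebraMap A B) h 0).app (ModuleCat.of A M) ≪≫
    (singleFunctor (ModuleCat.{u} B) 0).mapIso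
      (FlatLBC.extEquiv A B (ModuleCat.of A M)).symm.toModuleIso

end K228.FlatBC
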