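import Groth.Agent.CalgB.PsCohGen
import Groth.Agent.DRing.K228.Basic
import Mathlib.CategoryTheory.Triangulated.TStructure.TruncLTGE

/-!
# Truncation triangles across a gap in cohomology
-/

set_option autoImplicit false

universe u

open CategoryTheory CategoryTheory.Limits CategoryTheory.Pretriangulated

namespace K228.Gap

open DerivedCategory

section

variable {C : Type*} [Category* C] [Abelian C] [HasDerivedCategory C]

/-- the canonical t-structure -/
noncomputable abbrev tt : Triangulated.TStructure (DerivedCategory C) := TStructure.t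

lemma isIso_homology_truncGEπ (K : DerivedCategory C) (n j : ℤ) (hj : n ≤ j) :
    IsIso ((homologyFunctor C j).map ((tt.truncGEπ n).app K)) :=
  (Groth.Agent.CalgB.PsCohGen.homology_mor₂_of_isLE_obj₁ (tt.triangleLTGE_distinguished n K)
    (n - 1) inferInstance).1 j (by omega)

lemma isIso_homology_truncLTι (K : DerivedCategory C) (n j : ℤ) (hj : j < n) :
    IsIso ((homologyFunctor C j).map ((tt.truncLTι n).app K)) := by
  have hT := tt.triangleLTGE_distinguished n K
  have hz : ∀ i : ℤ, i < n → IsZero ((homologyFunctor C i).obj ((tt.triangleLTGE n).obj K).obj₃) :=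
    fun i hi => isZero_of_isGE _ n i hi
  have h1 : Epi ((homologyFunctor C j).map ((tt.triangleLTGE n).obj K).mor₁) :=
    (HomologySequence.epi_homologyMap_mor₁_iff _ hT j).2 ((hz j hj).eq_of_tgt _ _)
  have h2 : Mono ((homologyFunctor C j).map ((tt.triangleLTGE n).obj K).mor₁) :=
    (HomologySequence.mono_homologyMap_mor₁_iff _ hT (j - 1) j (by omega)).2
      ((hz (j - 1) (by omega)).eq_of_src _ _)
  exact @isIso_of_mono_of_epi _ _ _ _ _ _ h2 h1

lemma isZero_homology_truncLT (K : DerivedCategory C) (n j : ℤ) (hj : n ≤ j) :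
    IsZero ((homologyFunctor C j).obj ((tt.truncLT n).obj K)) :=
  isZero_of_isLE _ (n - 1) j (by omega)

lemma isZero_homology_truncGE (K : DerivedCategory C) (n j : ℤ) (hj : j < n) :
    IsZero ((homologyFunctor C j).obj ((tt.truncGE n).obj K)) :=
  isZero_of_isGE _ n j hj

/-- `τ_{<a} K → τ_{<b} K` is an isomorphism if `K` has no cohomology in `[a, b)`. -/
lemma isIso_natTrans (K : DerivedCategory C) (a b : ℤ) (hab : a ≤ b)
    (h : ∀ j, a ≤ j → j < b → IsZero ((homologyFunctor C j).obj K)) :
    IsIso ((tt.natTransTruncLTOfLE a b hab).app K) := by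
  rw [DerivedCategory.isIso_iff]
  intro j
  rcases lt_or_ge j a with hj | hj
  · have h1 := isIso_homology_truncLTι K a j hj
    have h2 := isIso_homology_truncLTι K b j (by omega)
    rw [← tt.natTransTruncLTOfLE_ι_app a b hab K, Functor.map_comp] at h1
    exact IsIso.of_isIso_comp_right _ ((homologyFunctor C j).map ((tt.truncLTι b).app K))
  · have hz1 := isZero_homology_truncLT K a j hj
    have hz2 : IsZero ((homologyFunctor C j).obj ((tt.truncLT b).obj K)) := by
      rcases lt_or_ge j b with hj' | hj'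
      · have h2 := isIso_homology_truncLTι K b j hj'
        exact (h j hj hj').of_iso (asIso ((homologyFunctor C j).map ((tt.truncLTι b).app K)))
      · exact isZero_homology_truncLT K b j hj'
    exact ⟨0, hz1.eq_of_src _ _, hz2.eq_of_src _ _⟩

/-- The triangle `τ_{<a} K → K → τ_{≥b} K` when `K` has no cohomology in `[a, b)`. -/
theorem exists_gapTriangle (K : DerivedCategory C) (a b : ℤ) (hab : a ≤ b)
    (h : ∀ j, a ≤ j → j < b → IsZero ((homologyFunctor C j).obj K)) :
    ∃ δ : (tt.truncGE b).obj K ⟶ ((tt.truncLT a).obj K)⟦(1 : ℤ)⟧,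
      Triangle.mk ((tt.truncLTι a).app K) ((tt.truncGEπ b).app K) δ ∈ distTriang (DerivedCategory C) := by
  have := isIso_natTrans K a b hab h
  let u : (tt.truncLT a).obj K ≅ (tt.truncLT b).obj K := asIso ((tt.natTransTruncLTOfLE a b hab).app K)
  have hu : u.hom ≫ (tt.truncLTι b).app K = (tt.truncLTι a).app K :=
    tt.natTransTruncLTOfLE_ι_app a b hab K
  refine ⟨(tt.truncGEδLT b).app K ≫ (u.inv)⟦(1 : ℤ)⟧', ?_⟩
  refine isomorphic_distinguished _ (tt.triangleLTGE_distinguished b K) _ ?_
  refine Triangle.isoMk _ _ u (Iso.refl _) (Iso.refl _) ?_ ?_ ?_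
  · exact (Category.comp_id _).trans hu.symm
  · exact (Category.comp_id _).trans (Category.id_comp _).symm
  · refine Eq.trans ?_ (Category.id_comp _).symm
    change ((tt.truncGEδLT b).app K ≫ (u.inv)⟦(1 : ℤ)⟧') ≫ (u.hom)⟦(1 : ℤ)⟧' = (tt.truncGEδLT b).app K
    rw [Category.assoc, ← Functor.map_comp, u.inv_hom_id, CategoryTheory.Functor.map_id]
    exact Category.comp_id _

end

end K228.Gap
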