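import Groth.Agent.DRing.K228.TorPerf
import Groth.Agent.DRing.K228.FlatBC
import Groth.Agent.DRing.K228.Gap

/-!
# Splitting off truncations where a fibre cohomology vanishes
-/

set_option autoImplicit false

universe u

open CategoryTheory CategoryTheory.Limits CategoryTheory.Pretriangulated TensorProduct

attribute [local instance] HasDerivedCategory.standard

namespace K228.SplitAway

open DerivedCategory Groth.Agent.LoccohB Groth.Agent.PerfC.RingPerf K228.FibreSplit K228.Gap

variable {R : Type u} [CommRing R] (E : DRing.Cx R)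

lemma exact_d_pOpcycles (i : ℤ) :
    (ShortComplex.mk (E.d (i - 1) i) (E.pOpcycles i) (E.d_pOpcycles (i - 1) i)).Exact :=
  ShortComplex.exact_of_g_is_cokernel _ (E.opcyclesIsCokernel (i - 1) i (by simp))

/-- A retraction up to `s` gives a homotopy in degree `i`. -/
theorem exists_homotopy (i : ℤ) [Module.Projective R (E.X i)] [Module.Projective R (E.X (i + 1))]
    (s : R) (r : E.X (i + 1) →ₗ[R] E.opcycles i)
    (hr : r ∘ₗ (E.fromOpcycles i (i + 1)).hom = s • LinearMap.id) :
    ∃ (u : E.X (i + 1) ⟶ E.X i) (h : E.X i ⟶ E.X (i - 1)),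
      E.d i (i + 1) ≫ u + h ≫ E.d (i - 1) i = s • 𝟙 _ := by
  have hp1 : Projective (E.X i) := (IsProjective.iff_projective (E.X i)).1 inferInstance
  have hp2 : Projective (E.X (i + 1)) := (IsProjective.iff_projective (E.X (i + 1))).1 inferInstance
  let r' : E.X (i + 1) ⟶ E.opcycles i := ModuleCat.ofHom r
  have hr' : E.fromOpcycles i (i + 1) ≫ r' = s • 𝟙 _ := ModuleCat.hom_ext hr
  let u : E.X (i + 1) ⟶ E.X i := Projective.factorThru r' (E.pOpcycles i)
  have hu : u ≫ E.pOpcycles i = r' := Projective.factorThru_comp _ _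
  have h0 : (s • 𝟙 (E.X i) - E.d i (i + 1) ≫ u) ≫ E.pOpcycles i = 0 := by
    rw [Preadditive.sub_comp, Category.assoc, hu, ← d_eq E i (i + 1), Category.assoc, hr',
      Linear.smul_comp, Category.id_comp, Linear.comp_smul, Category.comp_id, sub_self]
  refine ⟨u, (exact_d_pOpcycles E i).liftFromProjective _ h0, ?_⟩
  have h1 : (exact_d_pOpcycles E i).liftFromProjective _ h0 ≫ E.d (i - 1) i =
      s • 𝟙 (E.X i) - E.d i (i + 1) ≫ u :=
    ShortComplex.Exact.liftFromProjective_comp _ _ _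
  rw [h1, add_sub_cancel]

/-- Conversely a homotopy with `s` a unit gives a retraction. -/
theorem exists_retraction_of_homotopy (i : ℤ) (s : R) (hs : IsUnit s) (u : E.X (i + 1) ⟶ E.X i)
    (h : E.X i ⟶ E.X (i - 1)) (hh : E.d i (i + 1) ≫ u + h ≫ E.d (i - 1) i = s • 𝟙 _) :
    ∃ r : E.X (i + 1) →ₗ[R] E.opcycles i, r ∘ₗ (E.fromOpcycles i (i + 1)).hom = LinearMap.id := by
  obtain ⟨t, rfl⟩ := hs
  have h1 : E.fromOpcycles i (i + 1) ≫ u ≫ E.pOpcycles i = (t : R) • 𝟙 _ := by
    rw [← cancel_epi (E.pOpcycles i), ← Category.assoc, d_eq, ← Category.assoc,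
      ← sub_eq_of_eq_add hh.symm, Preadditive.sub_comp, Category.assoc, E.d_pOpcycles, comp_zero,
      sub_zero, Linear.smul_comp, Category.id_comp, Linear.comp_smul, Category.comp_id]
  refine ⟨((↑t⁻¹ : R) • (u ≫ E.pOpcycles i)).hom, ?_⟩
  have h2 : E.fromOpcycles i (i + 1) ≫ ((↑t⁻¹ : R) • (u ≫ E.pOpcycles i)) = 𝟙 _ := by
    rw [Linear.comp_smul, h1, smul_smul, Units.inv_mul, one_smul]
  exact congr($(h2).hom)

/-- Base change of a retraction up to `s` along a ring map making `s` invertible. -/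
theorem exists_retraction_ext {S : Type u} [CommRing S] [Algebra R S]
    (hE : DRing.TermwiseFiniteProjective E) (i : ℤ) (s : R) (hs : IsUnit (algebraMap R S s))
    (r : E.X (i + 1) →ₗ[R] E.opcycles i)
    (hr : r ∘ₗ (E.fromOpcycles i (i + 1)).hom = s • LinearMap.id) :
    ∃ r' : ((FlatBC.ext (algebraMap R S)).obj E).X (i + 1) →ₗ[S]
        ((FlatBC.ext (algebraMap R S)).obj E).opcycles i,
      r' ∘ₗ (((FlatBC.ext (algebraMap R S)).obj E).fromOpcycles i (i + 1)).hom = LinearMap.id := by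
  have := (hE i).2
  have := (hE (i + 1)).2
  obtain ⟨u, h, hh⟩ := exists_homotopy E i s r hr
  refine exists_retraction_of_homotopy _ i (algebraMap R S s) hs
    ((ModuleCat.extendScalars.{u, u, u} (algebraMap R S)).map u)
    ((ModuleCat.extendScalars.{u, u, u} (algebraMap R S)).map h) ?_
  have h1 := congrArg (ModuleCat.extendScalars.{u, u, u} (algebraMap R S)).map hh
  rw [Functor.map_add, Functor.map_comp, Functor.map_comp,
    Groth.Agent.LoccohB.HomBC.semi_map_smul R S, CategoryTheory.Functor.map_id] at h1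
  exact h1

/-- Truncation of a complex with a retraction at `i`. -/
theorem truncGE_of_retraction (F : DRing.Cx R) (i c : ℤ) (hF : DRing.TermwiseFiniteProjective F)
    (hc : DRing.VanishesAbove F c) (r : F.X (i + 1) →ₗ[R] F.opcycles i)
    (hr : r ∘ₗ (F.fromOpcycles i (i + 1)).hom = LinearMap.id) (L : Dual.D R)
    (e : DRing.toD F ≅ L) :
    ∃ E : DRing.Cx R, DRing.VanishesOutside E (i + 1) c ∧ DRing.TermwiseFiniteProjective E ∧
      Nonempty (DRing.toD E ≅ (tt.truncGE (i + 1)).obj L) := by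
  obtain ⟨e'⟩ := Groth.Agent.Dcoh.BddCx.nonempty_iso_truncGE F ((tt.truncGE (i + 1)).obj L) (i + 1)
    (fun j hj => isZero_homology_truncGE L (i + 1) j hj)
    (e.hom ≫ (tt.truncGEπ (i + 1)).app L) (fun j hj => by
      have := isIso_homology_truncGEπ L (i + 1) j hj
      rw [Functor.map_comp]
      exact IsIso.comp_isIso' inferInstance this)
  refine ⟨F.truncGE (i + 1), ?_, ?_, ⟨e'.symm⟩⟩
  · rintro j (hj | hj)
    · exact (F.truncGE (i + 1)).isZero_of_isStrictlyGE (i + 1) j hj
    · exact Groth.Agent.Dcoh.BddCx.truncGE_isZero_of_lt F (i + 1) c hc j hj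
  · exact fun j => Groth.Agent.Dcoh.BddCx.prop_truncGE_X (P := finProj R)
      (fun _ h => finProj_of_isZero h) F (i + 1) (finProj_of_retraction hr hF) (fun k _ => hF k) j

/-- The splitting. -/
theorem exists_split (L : Dual.D R) (a b : ℤ) (hab : a ≤ b)
    (hgap : ∀ j, a ≤ j → j < b → Subsingleton (Dual.HD R L j))
    (h0 : Subsingleton ((tt.truncGE b).obj L ⟶ ((tt.truncLT a).obj L)⟦(1 : ℤ)⟧)) :
    ∃ e : L ≅ (tt.truncLT a).obj L ⊞ (tt.truncGE b).obj L,
      (tt.truncLTι a).app L ≫ e.hom = biprod.inl ∧ (tt.truncGEπ b).app L = e.hom ≫ biprod.snd := by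
  obtain ⟨δ, hδ⟩ := exists_gapTriangle L a b hab
    (fun j h1 h2 => ModuleCat.isZero_of_iff_subsingleton.2 (hgap j h1 h2))
  exact exists_iso_binaryBiproduct_of_distTriang _ hδ (h0.elim _ _)

end K228.SplitAway
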