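import Groth.Agent.DRing.K228.FibreSplit
import Groth.Agent.Flat2C.TorAmpRestr

/-!
# Perfectness criteria: tor amplitude, fibres
-/

set_option autoImplicit false

universe u

open CategoryTheory CategoryTheory.Limits TensorProduct

attribute [local instance] HasDerivedCategory.standard

namespace K228.TorPerf

open DerivedCategory Groth.Agent.LoccohB Groth.Agent.PerfC.RingPerf Groth.Agent.Flat2C.TorAmpRestr
  Groth.Agent.Flat2C.TorAmpCone K228.FibreSplit

variable {R : Type u} [CommRing R]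

lemma isZero_hd_of_vanishes (F : DRing.Cx R) {K : Dual.D R} (e : DRing.toD F ≅ K) (i : ℤ)
    (h : IsZero (F.X i)) : Subsingleton (Dual.HD R K i) := by
  have h1 : F.ExactAt i := by
    rw [KProj.exactAt_iff_elem]
    intro z _
    have := ModuleCat.subsingleton_of_isZero h
    exact ⟨0, by rw [map_zero]; exact Subsingleton.elim _ _⟩
  have h2 := (HomologicalComplex.exactAt_iff_isZero_homology _ _).1 h1
  refine ModuleCat.isZero_of_iff_subsingleton.1 (h2.of_iso ?_)
  exact (DerivedCategory.homologyFunctor (ModuleCat.{u} R) i).mapIso e.symm ≪≫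
    (DerivedCategory.homologyFunctorFactors (ModuleCat.{u} R) i).app F

lemma exactAt_of_hd (E : DRing.Cx R) {K : Dual.D R} (e : DRing.toD E ≅ K) (i : ℤ)
    (h : Subsingleton (Dual.HD R K i)) : E.ExactAt i := by
  rw [HomologicalComplex.exactAt_iff_isZero_homology]
  refine (ModuleCat.isZero_of_iff_subsingleton.2 h).of_iso ?_
  exact ((DerivedCategory.homologyFunctorFactors (ModuleCat.{u} R) i).app E).symm ≪≫
    (DerivedCategory.homologyFunctor (ModuleCat.{u} R) i).mapIso e

lemma hd_of_exactAt (E : DRing.Cx R) {K : Dual.D R} (e : DRing.toD E ≅ K) (i : ℤ)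
    (h : E.ExactAt i) : Subsingleton (Dual.HD R K i) := by
  have h2 := (HomologicalComplex.exactAt_iff_isZero_homology _ _).1 h
  refine ModuleCat.isZero_of_iff_subsingleton.1 (h2.of_iso ?_)
  exact (DerivedCategory.homologyFunctor (ModuleCat.{u} R) i).mapIso e.symm ≪≫
    (DerivedCategory.homologyFunctorFactors (ModuleCat.{u} R) i).app E

/-- A pseudo-coherent object of tor amplitude in `[a, b]` is represented by a complex of finite
projectives in degrees `[a, b]`. -/
theorem exists_finiteProjective_of_torAmp {K : Dual.D R} (hK : DRing.IsPseudoCoherent' R K)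
    {a b : ℤ} (h : DRing.HasTorAmplitudeIn R a b K) :
    ∃ E : DRing.Cx R, DRing.VanishesOutside E a b ∧ DRing.TermwiseFiniteProjective E ∧
      Nonempty (DRing.toD E ≅ K) := by
  obtain ⟨F, hF0, hF, ⟨eF⟩⟩ := h
  obtain ⟨E, hEb, hE, ⟨eE⟩⟩ := exists_rep hK b fun i hi =>
    isZero_hd_of_vanishes F eF i (hF0 i (Or.inr hi))
  have hEf : DRing.TermwiseFlat E := fun i => by
    have := (hE i).2
    infer_instance
  have h1 := flat_cok_iff_of_iso b E F hEb (fun i hi => hF0 i (Or.inr hi)) hEf hF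
    (eE ≪≫ eF.symm) (h := a - 1) (i := a) (by omega)
  have h2 : Module.Flat R (Cok F (a - 1) a) := by
    have h3 : LinearMap.range (F.d (a - 1) a).hom = ⊥ := by
      rw [LinearMap.range_eq_bot]
      have : F.d (a - 1) a = 0 := (hF0 (a - 1) (Or.inl (by omega))).eq_of_src _ _
      rw [this]
      rfl
    have := hF a
    exact Module.Flat.of_linearEquiv (Submodule.quotEquivOfEqBot _ h3)
  have h4 : Module.Flat R (E.opcycles a) := by
    have := h1.2 h2
    exact Module.Flat.of_linearEquiv (nonempty_opcycles_equiv E (h := a - 1) (i := a) (by omega)).some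
  have h5 := Groth.Agent.PerfC.RingPerf.finitePresentation_opcycles E a hE
  obtain ⟨E', h6, h7, ⟨e'⟩⟩ := exists_trunc E a b hEb (termwiseFiniteProjective_of_free E hE)
    (fun i hi => exactAt_of_hd E eE i (isZero_hd_of_vanishes F eF i (hF0 i (Or.inl hi))))
    ⟨inferInstance, Module.Flat.projective_of_finitePresentation⟩
  exact ⟨E', h6, h7, ⟨e' ≪≫ eE⟩⟩

/-- Perfectness from vanishing of the fibres outside `[a, b]`, abstract form: `hs` says that
vanishing of the `i`-th cohomology of the fibres splits. -/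
theorem exists_of_retraction {K : Dual.D R} (hK : DRing.IsPseudoCoherent' R K)
    {a b : ℤ}
    (hs : ∀ (E : DRing.Cx R), DRing.TermwiseFiniteProjective E → E.IsKProjective →
      Nonempty (DRing.toD E ≅ K) → ∀ i : ℤ, (i < a ∨ b < i) →
      ∃ r : E.X (i + 1) →ₗ[R] E.opcycles i, r ∘ₗ (E.fromOpcycles i (i + 1)).hom = LinearMap.id) :
    ∃ E : DRing.Cx R, DRing.VanishesOutside E a b ∧ DRing.TermwiseFiniteProjective E ∧
      Nonempty (DRing.toD E ≅ K) := by
  obtain ⟨E, c, hEc, hE, ⟨eE⟩⟩ := id hK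
  have hE' := termwiseFiniteProjective_of_free E hE
  obtain ⟨E', hEb, hE2, ⟨e'⟩⟩ := exists_rep hK b fun i hi => by
    obtain ⟨r, hr⟩ := hs E hE' (isKProjective hEc fun i => (hE' i).2) ⟨eE⟩ i (Or.inr hi)
    exact hd_of_exactAt E eE i (exactAt_of_retraction hr)
  have hE3 := termwiseFiniteProjective_of_free E' hE2
  have key := hs E' hE3 (isKProjective hEb fun i => (hE3 i).2) ⟨e'⟩
  have h0 : ∀ i, i < a → E'.ExactAt i := fun i hi => by
    obtain ⟨r, hr⟩ := key i (Or.inl hi)
    exact exactAt_of_retraction hr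
  have h1 : finProj R (E'.opcycles a) := by
    obtain ⟨i, rfl⟩ : ∃ i, a = i + 1 := ⟨a - 1, by omega⟩
    obtain ⟨r, hr⟩ := key i (Or.inl (by omega))
    exact finProj_of_retraction hr hE3
  obtain ⟨E'', h6, h7, ⟨e''⟩⟩ := exists_trunc E' a b hEb hE3 h0 h1
  exact ⟨E'', h6, h7, ⟨e'' ≪≫ e'⟩⟩

/-- one-sided version. -/
theorem isPerfect_of_retraction {K : Dual.D R} (hK : DRing.IsPseudoCoherent' R K) (a : ℤ)
    (hs : ∀ (E : DRing.Cx R), DRing.TermwiseFiniteProjective E → E.IsKProjective →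
      Nonempty (DRing.toD E ≅ K) → ∀ i : ℤ, i < a →
      ∃ r : E.X (i + 1) →ₗ[R] E.opcycles i, r ∘ₗ (E.fromOpcycles i (i + 1)).hom = LinearMap.id) :
    DRing.IsPerfect R K := by
  obtain ⟨E, c, hEc, hE, ⟨eE⟩⟩ := id hK
  have hE3 := termwiseFiniteProjective_of_free E hE
  have key := hs E hE3 (isKProjective hEc fun i => (hE3 i).2) ⟨eE⟩
  have h0 : ∀ i, i < a → E.ExactAt i := fun i hi => by
    obtain ⟨r, hr⟩ := key i hi
    exact exactAt_of_retraction hr
  have h1 : finProj R (E.opcycles a) := by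
    obtain ⟨i, rfl⟩ : ∃ i, a = i + 1 := ⟨a - 1, by omega⟩
    obtain ⟨r, hr⟩ := key i (by omega)
    exact finProj_of_retraction hr hE3
  obtain ⟨E'', h6, h7, ⟨e''⟩⟩ := exists_trunc E a c hEc hE3 h0 h1
  exact ⟨E'', a, c, h6, h7, ⟨e'' ≪≫ eE⟩⟩

end K228.TorPerf
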