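import Groth.Agent.CalgA.RegSerre
import Groth.Agent.S0563
import Groth.Agent.DRing.K228.TorPerf
import Groth.Agent.DRing.K228.SplitAway
import Mathlib.RingTheory.LocalProperties.ProjectiveDimension

/-!
# Regular rings of finite dimension: projective amplitude of bounded complexes
-/

set_option autoImplicit false

universe u

open CategoryTheory CategoryTheory.Limits CategoryTheory.Pretriangulated

attribute [local instance] HasDerivedCategory.standard

namespace K228.GlDim

open DerivedCategory Groth.Agent.LoccohB Groth.Agent.PerfC.RingPerf K228.FibreSplit K228.Gap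
  Groth.Agent.Flat2C.TorAmpRestr

/-- All modules over a regular ring of dimension `d` have projective dimension `≤ d`. -/
theorem hasProjectiveDimensionLT_of_regular (R : Type u) [CommRing R] [IsNoetherianRing R]
    (hreg : ∀ p : PrimeSpectrum R, IsRegularLocalRing (Localization.AtPrime p.asIdeal)) (d : ℕ)
    (hd : ringKrullDim R = d) (M : Type u) [AddCommGroup M] [Module R M] :
    HasProjectiveDimensionLT (ModuleCat.of R M) (d + 1) := by
  refine Groth.Agent.CalgA.RegSerre.PD_of_quotient d (fun I => ?_) M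
  refine ((ModuleCat.of R (R ⧸ I)).hasProjectiveDimensionLE_iff_forall_primeSpectrum d).2 fun p => ?_
  have := hreg p
  have h1 : ringKrullDim (Localization.AtPrime p.asIdeal) = p.asIdeal.height :=
    IsLocalization.AtPrime.ringKrullDim_eq_height p.asIdeal _
  have h2 : (p.asIdeal.height : WithBot ℕ∞) ≤ d := by
    rw [← hd]
    exact Ideal.height_le_ringKrullDim_of_ne_top p.2.ne_top
  have h3 : p.asIdeal.height ≤ d := by exact_mod_cast h2
  obtain ⟨e, he⟩ := ENat.ne_top_iff_exists.1 (ne_top_of_le_ne_top (ENat.natCast_ne_top d) h3)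
  rw [← he] at h1 h3
  have h4 : e ≤ d := by exact_mod_cast h3
  have h5 := Groth.Agent.S0563.result (Localization.AtPrime p.asIdeal) e (by rw [h1]; rfl)
    ((ModuleCat.of R (R ⧸ I)).localizedModule p.1.primeCompl)
  exact @hasProjectiveDimensionLT_of_ge _ _ _ _ (e + 1) (d + 1) (by omega) h5

variable {R : Type u} [CommRing R]

/-- truncation of a complex of projectives. -/
lemma exists_trunc_proj (F : DRing.Cx R) (n b : ℤ) (hb : DRing.VanishesAbove F b)
    (hF : ∀ i, Projective (F.X i)) (h0 : ∀ i, i < n → F.ExactAt i)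
    (hn : Projective (F.opcycles n)) :
    ∃ E : DRing.Cx R, DRing.VanishesOutside E n b ∧ (∀ i, Module.Projective R (E.X i)) ∧
      Nonempty (DRing.toD E ≅ DRing.toD F) := by
  obtain ⟨e⟩ := Groth.Agent.Dcoh.BddCx.nonempty_iso_truncGE F (DRing.toD F) n
    (fun i hi => ((HomologicalComplex.exactAt_iff_isZero_homology _ _).1 (h0 i hi)).of_iso
      ((DerivedCategory.homologyFunctorFactors (ModuleCat.{u} R) i).app F))
    (𝟙 _) (fun i _ => by rw [CategoryTheory.Functor.map_id]; infer_instance)
  refine ⟨F.truncGE n, ?_, ?_, ⟨e.symm⟩⟩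
  · rintro i (hi | hi)
    · exact (F.truncGE n).isZero_of_isStrictlyGE n i hi
    · exact Groth.Agent.Dcoh.BddCx.truncGE_isZero_of_lt F n b hb i hi
  · exact fun i => (IsProjective.iff_projective _).2 (Groth.Agent.Dcoh.BddCx.prop_truncGE_X
      (P := projProp R) (fun A h => (projProp R).prop_of_isZero h) F n hn (fun i _ => hF i) i)

/-- dimension shifting down a resolution. -/
lemma pd_opcycles (F : DRing.Cx R) (hF : ∀ i, Projective (F.X i)) (n : ℤ)
    (h0 : ∀ i, i < n → F.ExactAt i) (d : ℕ)
    (hd : HasProjectiveDimensionLT (F.opcycles n) (d + 1)) :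
    Projective (F.opcycles (n - d)) := by
  induction d generalizing n with
  | zero =>
    rw [Nat.cast_zero, sub_zero, projective_iff_hasProjectiveDimensionLT_one]
    exact hd
  | succ d ih =>
    have hS := Groth.Agent.Dcoh.BddCx.shortExact_opcycles F (n - 1) n (by omega)
      ((HomologicalComplex.exactAt_iff_isZero_homology _ _).1 (h0 (n - 1) (by omega)))
    have h1 := (hS.hasProjectiveDimensionLT_X₃_iff d (hF n)).1 hd
    have h2 := ih (n - 1) (fun i hi => h0 i (by omega)) h1
    have e : n - 1 - (d : ℤ) = n - ((d + 1 : ℕ) : ℤ) := by push_cast; ring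
    rw [← e]
    exact h2

/-- Bounded complexes over a ring with global dimension `≤ d`. -/
theorem exists_projective_rep (d : ℕ)
    (hgl : ∀ (M : Type u) [AddCommGroup M] [Module R M],
      HasProjectiveDimensionLT (ModuleCat.of R M) (d + 1)) (K : Dual.D R) (n b : ℤ)
    (hb : ∀ i : ℤ, b < i → Subsingleton (Dual.HD R K i))
    (hn : ∀ i : ℤ, i < n → Subsingleton (Dual.HD R K i)) :
    ∃ E : DRing.Cx R, DRing.VanishesOutside E (n - d) b ∧ (∀ i, Module.Projective R (E.X i)) ∧
      Nonempty (DRing.toD E ≅ K) := by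
  have hle := K228.Basic.isLE_of_subsingleton K b hb
  obtain ⟨K', hK', ⟨e⟩⟩ := exists_iso_Q_obj_of_isLE K b
  obtain ⟨P, f, hP1, hP2, hf⟩ := exists_projective_resolution K' b
    (fun i hi => HomologicalComplex.exactAt_iff_isZero_homology _ _ |>.2 (by
      have h1 := isZero_of_isLE K b i hi
      exact h1.of_iso (((DerivedCategory.homologyFunctorFactors (ModuleCat.{u} R) i).app K').symm ≪≫
        (DerivedCategory.homologyFunctor (ModuleCat.{u} R) i).mapIso e.symm)))
  let eP : DRing.toD P ≅ K := asIso (Q.map f) ≪≫ e.symm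
  have hex : ∀ i, i < n → P.ExactAt i := fun i hi => K228.TorPerf.exactAt_of_hd P eP i (hn i hi)
  obtain ⟨E, h1, h2, ⟨h3⟩⟩ := exists_trunc_proj P (n - d) b hP1 hP2
    (fun i hi => hex i (by omega)) (pd_opcycles P hP2 n hex d (hgl (P.opcycles n)))
  exact ⟨E, h1, h2, ⟨h3 ≪≫ eP⟩⟩

/-- Vanishing of Hom across a gap. -/
theorem subsingleton_hom_of_glDim (d : ℕ)
    (hgl : ∀ (M : Type u) [AddCommGroup M] [Module R M],
      HasProjectiveDimensionLT (ModuleCat.of R M) (d + 1)) (K L : Dual.D R)
    (hKb : ∃ b : ℤ, ∀ i : ℤ, b < i → Subsingleton (Dual.HD R K i)) (k : ℤ)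
    (hK : ∀ i : ℤ, i ≤ k → Subsingleton (Dual.HD R K i))
    (hL : ∀ i : ℤ, k - d + 1 ≤ i → Subsingleton (Dual.HD R L i)) :
    Subsingleton (K ⟶ L) := by
  obtain ⟨b, hb⟩ := hKb
  exact K228.Basic.subsingleton_hom (k + 1 - d) b K
    (exists_projective_rep d hgl K (k + 1) b hb fun i hi => hK i (by omega)) L
    fun i hi => hL i (by omega)

end K228.GlDim
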