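import Groth.Agent.DRing.K229.LiftStab
import Groth.Agent.S0534
import Groth.Agent.S0535

/-!
# Lifting bounded above complexes of finite projective modules along a henselian pair
-/

set_option autoImplicit false

universe u

open CategoryTheory CategoryTheory.Limits
open scoped TensorProduct

attribute [local instance] HasDerivedCategory.standard

namespace K228.Hensel

open K229.LiftAbs K229.LiftMod K229.LiftStab

/-- Finite projective modules. -/
def fp (A : Type u) [CommRing A] : ObjectProperty (ModuleCat.{u} A) :=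
  fun X => Module.Finite A X ∧ Module.Projective A X

instance (A : Type u) [CommRing A] : (fp A).IsClosedUnderIsomorphisms where
  of_iso e h := by
    obtain ⟨h1, h2⟩ := h
    exact ⟨Module.Finite.equiv e.toLinearEquiv, Module.Projective.of_equiv e.toLinearEquiv⟩

variable {A : Type u} [CommRing A]

lemma fp_prod_iff (X Y : ModuleCat.{u} A) (hX : fp A X) :
    fp A (ModuleCat.of A (X × Y)) ↔ fp A Y := by
  obtain ⟨h1, h2⟩ := hX
  constructor
  · rintro ⟨h4 : Module.Finite A (X × Y), h5 : Module.Projective A (X × Y)⟩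
    exact ⟨Module.Finite.of_surjective (LinearMap.snd A X Y) LinearMap.snd_surjective,
      Module.Projective.of_split (LinearMap.inr A X Y) (LinearMap.snd A X Y) rfl⟩
  · rintro ⟨h4, h5⟩
    exact ⟨inferInstanceAs (Module.Finite A (X × Y)), inferInstanceAs (Module.Projective A (X × Y))⟩

variable (I : Ideal A) [HenselianRing A I]

/-- Lifting of representatives along a henselian pair. -/
theorem exists_lift [DRing.HasLBaseChange (Ideal.Quotient.mk I)] (K : Dual.D A)
    (hK : DRing.IsPseudoCoherent' A K) (E : DRing.Cx (A ⧸ I)) (b : ℤ) (hEb : DRing.VanishesAbove E b)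
    (hEs : DRing.TermwiseFiniteProjective E)
    (hE : Nonempty (DRing.toD E ≅ (DRing.LBaseChange (Ideal.Quotient.mk I)).obj K)) :
    ∃ (P : DRing.Cx A) (b' : ℤ), DRing.VanishesAbove P b' ∧ DRing.TermwiseFiniteProjective P ∧
      Nonempty (DRing.toD P ≅ K) ∧ Nonempty ((((ModuleCat.extendScalars (Ideal.Quotient.mk I)).mapHomologicalComplex (ComplexShape.up ℤ)).obj P) ≅ E) ∧
      ∀ i : ℤ, Module.Free (A ⧸ I) (E.X i) → Module.Free A (P.X i) := by
  have hI : I ≤ Ideal.jacobson (⊥ : Ideal A) := HenselianRing.jac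
  obtain ⟨Q, c, hQ, hQ', eQ⟩ := hK
  obtain ⟨P, b', h1, h2, h3, ⟨h4⟩⟩ := K229.LiftD.exists_lift I (fp A) (fun X h => h.2) fp_prod_iff
    (fun X Y f _ hY h => by
      obtain ⟨h1, h2⟩ := hY
      exact surjective_of_range_sup I hI X Y f h) K
    ⟨Q, c, hQ, fun i => by
      obtain ⟨h5, h6⟩ := hQ' i
      exact ⟨h5, inferInstance⟩, eQ⟩ E b hEb
    (fun i => by
      obtain ⟨h5, h6⟩ := hEs i
      obtain ⟨P, _, _, h7, h8, h9⟩ := Groth.Agent.S0534.result A I (E.X i)
      exact ⟨ModuleCat.of A P, ⟨h7, h8⟩, h9⟩) hE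
  refine ⟨P, b', h1, h2, h3, ⟨h4⟩, fun i hi => ?_⟩
  have e : (red I).obj (P.X i) ≅ E.X i := (HomologicalComplex.eval _ _ i).mapIso h4
  obtain ⟨h5, h6⟩ := hEs i
  obtain ⟨n, ⟨e'⟩⟩ := exists_pi_iso (E.X i)
  have := (h2 i).1
  have := (h2 i).2
  let e2 : (A ⧸ I) ⊗[A] (Fin n → A) ≃ₗ[A ⧸ I] (A ⧸ I) ⊗[A] (P.X i) :=
    (redEquiv I (ModuleCat.of A (Fin n → A))).trans
      ((redPi I n ≪≫ e' ≪≫ e.symm).toLinearEquiv.trans (redEquiv I (P.X i)).symm)
  obtain ⟨e3⟩ := Groth.Agent.S0535.result A I (Fin n → A) (P.X i) e2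
  exact Module.Free.of_equiv e3

end K228.Hensel
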