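import Groth.Agent.LoccohB.TenCx

/-!
# `Hom•(K, Hom•(L, M)) ≅ Hom•(K ⊗ L, M)` as complexes
-/

set_option autoImplicit false

universe u

open CategoryTheory Limits MonoidalCategory CochainComplex CochainComplex.HomComplex

namespace K228.HomHomTen

open Groth.Agent.LoccohB.TenCx

variable {A : Type u} [CommRing A] (K L M : DRing.Cx A)

/-- elements of `Hom^n(K ⊗ L, M)` are determined by values on pure tensors. -/
lemma ext_ten {n : ℤ} {w w' : Cochain (K ⊗ L : DRing.Cx A) M n}
    (h : ∀ (p q r s : ℤ) (hpq : p + q = r) (h : n + r = s) (x : K.X p) (y : L.X q),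
      evC (K ⊗ L : DRing.Cx A) M n r s h w (tmk K L p q r hpq x y) =
        evC (K ⊗ L : DRing.Cx A) M n r s h w' (tmk K L p q r hpq x y)) : w = w' := by
  refine ext_evC fun r s hrs t => ?_
  refine LinearMap.congr_fun (congrArg ModuleCat.Hom.hom (hom_ext_tmk (K := K) (E := L)
    (f := ModuleCat.ofHom (evC (K ⊗ L : DRing.Cx A) M n r s hrs w))
    (g := ModuleCat.ofHom (evC (K ⊗ L : DRing.Cx A) M n r s hrs w')) fun p q hpq x y => ?_)) t
  exact h p q r s hpq hrs x y

/-- The map `Hom^n(K, Hom(L, M)) → Hom^n(K ⊗ L, M)`. -/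
noncomputable def φ (n : ℤ) (z : Cochain K (DRing.homCx L M) n) :
    Cochain (K ⊗ L : DRing.Cx A) M n :=
  mkC (K ⊗ L : DRing.Cx A) M n fun r s h =>
    (descT fun p q hpq =>
      (ev L M (n + p) q s (by omega)) ∘ₗ (evC K (DRing.homCx L M) n p (n + p) rfl z)).hom

lemma evC_φ (n : ℤ) (z : Cochain K (DRing.homCx L M) n) (p q r s : ℤ) (hpq : p + q = r)
    (h : n + r = s) (x : K.X p) (y : L.X q) :
    evC (K ⊗ L : DRing.Cx A) M n r s h (φ K L M n z) (tmk K L p q r hpq x y) =
      ev L M (n + p) q s (by omega) (evC K (DRing.homCx L M) n p (n + p) rfl z x) y := by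
  refine (evC_mkC _ _ _ _ r s h _).trans ?_
  exact descT_tmk _ p q hpq x y

/-- The map `Hom^n(K, Hom(L, M)) → Hom^n(K ⊗ L, M)`. -/
noncomputable def Φ (n : ℤ) :
    Cochain K (DRing.homCx L M) n →ₗ[A] Cochain (K ⊗ L : DRing.Cx A) M n where
  toFun z := φ K L M n z
  map_add' z z' := by
    refine ext_ten K L M fun p q r s hpq h x y => ?_
    rw [map_add (evC (K ⊗ L : DRing.Cx A) M n r s h), LinearMap.add_apply, evC_φ, evC_φ, evC_φ,
      map_add (evC K (DRing.homCx L M) n p (n + p) rfl), LinearMap.add_apply,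
      map_add (ev L M (n + p) q s _), LinearMap.add_apply]
  map_smul' a z := by
    refine ext_ten K L M fun p q r s hpq h x y => ?_
    rw [RingHom.id_apply, map_smul (evC (K ⊗ L : DRing.Cx A) M n r s h), LinearMap.smul_apply,
      evC_φ, evC_φ, map_smul (evC K (DRing.homCx L M) n p (n + p) rfl), LinearMap.smul_apply,
      map_smul (ev L M (n + p) q s _), LinearMap.smul_apply]

lemma evC_Φ (n : ℤ) (z : Cochain K (DRing.homCx L M) n) (p q r s : ℤ) (hpq : p + q = r)
    (h : n + r = s) (x : K.X p) (y : L.X q) :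
    evC (K ⊗ L : DRing.Cx A) M n r s h (Φ K L M n z) (tmk K L p q r hpq x y) =
      ev L M (n + p) q s (by omega) (evC K (DRing.homCx L M) n p (n + p) rfl z x) y :=
  evC_φ K L M n z p q r s hpq h x y

lemma evC_Φ' (n : ℤ) (z : Cochain K (DRing.homCx L M) n) (p q r s p' : ℤ) (hpq : p + q = r)
    (h : n + r = s) (hp' : n + p = p') (x : K.X p) (y : L.X q) :
    evC (K ⊗ L : DRing.Cx A) M n r s h (Φ K L M n z) (tmk K L p q r hpq x y) =
      ev L M p' q s (by omega) (evC K (DRing.homCx L M) n p p' hp' z x) y := by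
  subst hp'
  exact evC_Φ K L M n z p q r s hpq h x y

lemma Φ_injective (n : ℤ) : Function.Injective (Φ K L M n) := by
  intro z z' hzz
  refine ext_evC fun p p' hp x => ?_
  refine ext_ev fun q s hs y => ?_
  rw [← evC_Φ' K L M n z p q (p + q) s p' rfl (by omega) hp x y, hzz,
    evC_Φ' K L M n z' p q (p + q) s p' rfl (by omega) hp x y]

/-- inverse direction, on one component. -/
noncomputable def ψ (n : ℤ) (w : Cochain (K ⊗ L : DRing.Cx A) M n) (p p' : ℤ) (h : n + p = p') :
    K.X p →ₗ[A] Cochain L M p' where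
  toFun x := mkC L M p' fun q s h' =>
    (evC (K ⊗ L : DRing.Cx A) M n (p + q) s (by omega) w) ∘ₗ (tmk K L p q (p + q) rfl x)
  map_add' x x' := by
    refine ext_evC fun q s h y => ?_
    rw [evC_mkC, map_add (evC L M p' q s h), LinearMap.add_apply, evC_mkC, evC_mkC]
    simp only [map_add, LinearMap.comp_apply, LinearMap.add_apply]
  map_smul' a x := by
    refine ext_evC fun q s h y => ?_
    rw [evC_mkC, RingHom.id_apply, map_smul (evC L M p' q s h), LinearMap.smul_apply, evC_mkC]
    simp only [map_smul, LinearMap.comp_apply, LinearMap.smul_apply]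

lemma Φ_surjective (n : ℤ) : Function.Surjective (Φ K L M n) := by
  intro w
  refine ⟨mkC K (DRing.homCx L M) n fun p p' h => ψ K L M n w p p' h, ?_⟩
  refine ext_ten K L M fun p q r s hpq h x y => ?_
  subst hpq
  rw [evC_Φ]
  refine (congrArg (fun t => ev L M (n + p) q s (by omega) t y)
    (evC_mkC K (DRing.homCx L M) n (fun p p' h => ψ K L M n w p p' h) p (n + p) rfl x)).trans ?_
  exact evC_mkC L M (n + p) _ q s (by omega) y

/-- The isomorphism `Hom•(K, Hom•(L, M)) ≅ Hom•(K ⊗ L, M)`. -/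
noncomputable def homHomTen : DRing.homCx K (DRing.homCx L M) ⟶ DRing.homCx (K ⊗ L : DRing.Cx A) M where
  f n := ModuleCat.ofHom (Φ K L M n)
  comm' := by
    rintro n _ rfl
    refine ModuleCat.hom_ext (LinearMap.ext fun (z : Cochain K (DRing.homCx L M) n) => ?_)
    change δ n (n + 1) (Φ K L M n z) = Φ K L M (n + 1) (δ n (n + 1) z)
    refine ext_ten K L M fun p q r s hpq h x y => ?_
    obtain ⟨s, rfl⟩ : ∃ s', s = s' + 1 := ⟨s - 1, by omega⟩
    rw [evC_δ (K ⊗ L : DRing.Cx A) M n r s (by omega), evC_Φ' K L M n z p q r s (n + p) hpq (by omega) rfl,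
      d_tmk, map_add, evC_Φ' K L M n z (p + 1) q (r + 1) (s + 1) (n + p + 1) (by omega) (by omega) (by omega),
      evC_Φ' K L M (n + 1) _ p q r (s + 1) (n + p + 1) hpq h (by omega)]
    have e : evC K (DRing.homCx L M) (n + 1) p (n + p + 1) (by omega) (δ n (n + 1) z) x =
      ((DRing.homCx L M).d (n + p) (n + p + 1)).hom (evC K (DRing.homCx L M) n p (n + p) rfl z x) -
      n.negOnePow • evC K (DRing.homCx L M) n (p + 1) (n + p + 1) (by omega) z ((K.d p (p + 1)).hom x) :=
      evC_δ K (DRing.homCx L M) n p (n + p) rfl z x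
    rw [e, map_sub, LinearMap.sub_apply, ev_d L M (n + p) q s (by omega)]
    rw [Units.smul_def, Units.smul_def, Units.smul_def, Units.smul_def, map_zsmul, map_zsmul,
      evC_Φ' K L M n z p (q + 1) (r + 1) (s + 1) (n + p) (by omega) (by omega) rfl,
      LinearMap.smul_apply, smul_add, smul_smul, Int.negOnePow_add, Units.val_mul]
    abel

instance : IsIso (homHomTen K L M) := by
  have : ∀ n, IsIso ((homHomTen K L M).f n) := fun n =>
    (ConcreteCategory.isIso_iff_bijective ((homHomTen K L M).f n)).2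
      ⟨Φ_injective K L M n, Φ_surjective K L M n⟩
  exact HomologicalComplex.Hom.isIso_of_components _

end K228.HomHomTen
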