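import Groth.Agent.DRing.K227.TorCrit
import Groth.Agent.Ega3A.BcBasic
import Groth.Agent.Sga4h.KProjFun
import Groth.Agent.S2067
import Groth.Agent.S2137
import Groth.Agent.PerfB.DescRing

/-!
# Pseudo-coherence can be checked after base change along families of ring maps detecting finiteness
-/

set_option autoImplicit false

universe w u

open CategoryTheory CategoryTheory.Limits CategoryTheory.Pretriangulated

attribute [local instance] HasDerivedCategory.standard

namespace K228.PcQuot

open DerivedCategory Groth.Agent.LoccohB Groth.Agent.PerfB.DescRing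

variable {A B : Type u} [CommRing A] [CommRing B]

/-- Top cohomology of a bounded above complex. -/
lemma nonempty_topIso (E : DRing.Cx A) (b : ℤ) (hE : DRing.VanishesAbove E b) :
    Nonempty ((homologyFunctor (ModuleCat.{u} A) b).obj (DRing.toD E) ≅ E.opcycles b) := by
  have h0 : E.d b (b + 1) = 0 := (hE (b + 1) (by omega)).eq_of_tgt _ _
  exact ⟨(homologyFunctorFactors (ModuleCat.{u} A) b).app E ≪≫
    E.isoHomologyι b (b + 1) (by simp) h0⟩

lemma isLE_toD (E : DRing.Cx A) (b : ℤ) (hE : DRing.VanishesAbove E b) : (DRing.toD E).IsLE b := by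
  have : E.IsStrictlyLE b := (CochainComplex.isStrictlyLE_iff _ _).2 fun i hi => hE i hi
  infer_instance

lemma finite_opcycles_ext (φ : A →+* B) [DRing.HasLBaseChange φ] (P : DRing.Cx A) (b : ℤ)
    (hP : DRing.VanishesAbove P b) (hP' : ∀ i, Projective (P.X i)) {m : ℤ} (hm : m ≤ b)
    (h : DRing.IsPseudoCoherent B m ((DRing.LBaseChange φ).obj (DRing.toD P))) :
    Module.Finite B ((ModuleCat.extendScalars.{u, u, u} φ).obj (P.opcycles b)) := by
  have : P.IsStrictlyLE b := (CochainComplex.isStrictlyLE_iff _ _).2 fun i hi => hP i hi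
  have : P.IsKProjective := CochainComplex.isKProjective_of_projective P b
  let P' : DRing.Cx B :=
    ((ModuleCat.extendScalars.{u, u, u} φ).mapHomologicalComplex (ComplexShape.up ℤ)).obj P
  have hP2 : DRing.VanishesAbove P' b := fun i hi =>
    (ModuleCat.extendScalars.{u, u, u} φ).map_isZero (hP i hi)
  have h1 : DRing.IsPseudoCoherent B b (DRing.toD P') :=
    pc_mono hm (pc_of_iso (LBC.lbcQIso φ P) h)
  have h2 := Groth.Agent.CalgB.PsCoh.finite_homology_top h1 (isLE_toD P' b hP2)
  obtain ⟨e⟩ := nonempty_topIso P' b hP2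
  exact Module.Finite.equiv (e ≪≫ Groth.Agent.Ega3A.BcBasic.opcyclesBc φ P b).toLinearEquiv

open scoped LBC in
theorem pc_of_family_aux {ι : Type w} (B : ι → Type u) [∀ j, CommRing (B j)] (φ : ∀ j, A →+* B j)
    [∀ j, DRing.HasLBaseChange (φ j)]
    (hfin : ∀ M : ModuleCat.{u} A, (∀ j, Module.Finite (B j)
      ((ModuleCat.extendScalars.{u, u, u} (φ j)).obj M)) → Module.Finite A M) :
    ∀ (n : ℕ) (m b : ℤ), b - m + 1 ≤ n → ∀ K : Dual.D A, K.IsLE b →
      (∀ j, DRing.IsPseudoCoherent (B j) m ((DRing.LBaseChange (φ j)).obj K)) →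
      DRing.IsPseudoCoherent A m K := by
  intro n
  induction n with
  | zero =>
    intro m b hb K hKb hK
    have : K.IsLE (m - 1) := TStructure.t.isLE_of_le K b (m - 1) (by push_cast at hb; omega)
    exact Groth.Agent.CalgB.PsCohGen.PC.of_isLE (Groth.Agent.CalgB.PsCoh.isProjClass_ffree A) this
  | succ n ih =>
    intro m b hb K hKb hK
    by_cases hmb : b < m
    · have : K.IsLE (m - 1) := TStructure.t.isLE_of_le K b (m - 1) (by omega)
      exact Groth.Agent.CalgB.PsCohGen.PC.of_isLE
        (Groth.Agent.CalgB.PsCoh.isProjClass_ffree A) this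
    obtain ⟨P, hP, hP', ⟨e⟩⟩ := K227.PerfFlat.exists_projective_rep K b
      (fun i hi => ModuleCat.subsingleton_of_isZero (K.isZero_of_isLE b i hi))
    have h1 : Module.Finite A (P.opcycles b) := hfin _ fun j =>
      finite_opcycles_ext (φ j) P b hP hP' (not_lt.1 hmb)
        (pc_of_iso ((DRing.LBaseChange (φ j)).mapIso e.symm) (hK j))
    obtain ⟨eb⟩ := nonempty_topIso P b hP
    have hf : Module.Finite A ((homologyFunctor (ModuleCat.{u} A) b).obj K) :=
      Module.Finite.equiv (eb.symm ≪≫
        (homologyFunctor (ModuleCat.{u} A) b).mapIso e).toLinearEquiv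
    obtain ⟨E, α, hE1, hE2, hα⟩ := exists_top_cover K b hf
    obtain ⟨C, β, γ, hT⟩ := distinguished_cocone_triangle α
    have hE3 : ∀ i : ℤ, b < i → IsZero ((homologyFunctor (ModuleCat.{u} A) i).obj (DRing.toD E)) :=
      fun i hi => by
        have := isLE_toD E b fun i hi => hE1 i (Or.inr hi)
        exact (DRing.toD E).isZero_of_isLE b i hi
    have hC : C.IsLE (b - 1) := by
      rw [isLE_iff]
      exact fun i hi => isZero_cone _ hT b hE3 (fun i hi => K.isZero_of_isLE b i hi) hα i hi
    have hC' : DRing.IsPseudoCoherent A m C := by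
      refine ih m (b - 1) (by push_cast at hb; omega) C hC fun j => ?_
      have hT' := (DRing.LBaseChange (φ j)).map_distinguished _ hT
      exact (Groth.Agent.S2067.result _ hT' m).1
        (Groth.Agent.S2137.result (φ j) _ (m + 1) (pc_toD E hE1 hE2 (m + 1))) (hK j)
    exact (Groth.Agent.S2067.result _ hT m).2.1 (pc_toD E hE1 hE2 m) hC'

/-- Pseudo-coherence of bounded above objects can be tested after base change along a family of ring maps
detecting finiteness of modules. -/
theorem pc_of_family {ι : Type w} (B : ι → Type u) [∀ j, CommRing (B j)] (φ : ∀ j, A →+* B j)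
    [∀ j, DRing.HasLBaseChange (φ j)]
    (hfin : ∀ M : ModuleCat.{u} A, (∀ j, Module.Finite (B j)
      ((ModuleCat.extendScalars.{u, u, u} (φ j)).obj M)) → Module.Finite A M) (m b : ℤ)
    (K : Dual.D A) (hKb : K.IsLE b)
    (hK : ∀ j, DRing.IsPseudoCoherent (B j) m ((DRing.LBaseChange (φ j)).obj K)) :
    DRing.IsPseudoCoherent A m K :=
  pc_of_family_aux B φ hfin (b - m + 1).toNat m b (Int.self_le_toNat _) K hKb hK

end K228.PcQuot
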