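import Groth.Agent.DRing.K228.Hensel
import Groth.Agent.DRing.K228.PcQuot
import Groth.Agent.DRing.K227.LbcFlat
import Groth.Agent.DRing.K228.Basic
import Mathlib.LinearAlgebra.FreeModule.Finite.Matrix

/-!
# Minimal free representatives over a local ring
-/

set_option autoImplicit false

universe u

open CategoryTheory CategoryTheory.Limits HomologicalComplex

attribute [local instance] HasDerivedCategory.standard

namespace K228.MinFree

section ZeroDiff

variable {C : Type*} [Category* C] [Abelian C] (E : CochainComplex C ℤ)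

/-- The complex of cohomology with zero differential. -/
noncomputable def hCx : CochainComplex C ℤ where
  X i := E.homology i
  d _ _ := 0

variable {E} in
lemma quasiIso_of_sections {H : CochainComplex C ℤ} (hd : ∀ i j, H.d i j = 0) (f : H ⟶ E)
    (t : ∀ i, H.X i ⟶ E.cycles i) (ht : ∀ i, f.f i = t i ≫ E.iCycles i)
    (ht' : ∀ i, IsIso (t i ≫ E.homologyπ i)) : QuasiIso f := by
  refine ⟨fun i => ?_⟩
  rw [quasiIsoAt_iff_isIso_homologyMap]
  have h1 : IsIso (H.iCycles i) := H.isIso_iCycles i (i + 1) (by simp) (hd _ _)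
  have h2 : IsIso (H.homologyπ i) := H.isIso_homologyπ (i - 1) i (by simp) (hd _ _)
  have h3 : cyclesMap f i = H.iCycles i ≫ t i := by
    rw [← cancel_mono (E.iCycles i), cyclesMap_i, Category.assoc, ht]
  have h4 : H.homologyπ i ≫ homologyMap f i = H.iCycles i ≫ t i ≫ E.homologyπ i := by
    rw [homologyπ_naturality, h3, Category.assoc]
  have h5 : homologyMap f i = inv (H.homologyπ i) ≫ H.iCycles i ≫ t i ≫ E.homologyπ i := by
    rw [← h4, IsIso.inv_hom_id_assoc]
  rw [h5]
  have := ht' i
  infer_instance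

theorem exists_quasiIso_hCx (h : ∀ i, Projective (E.homology i)) :
    ∃ f : hCx E ⟶ E, QuasiIso f := by
  let s : ∀ i, E.homology i ⟶ E.cycles i := fun i => Projective.factorThru (𝟙 _) (E.homologyπ i)
  have hs : ∀ i, s i ≫ E.homologyπ i = 𝟙 _ := fun i => Projective.factorThru_comp _ _
  let f : hCx E ⟶ E :=
    { f := fun i => s i ≫ E.iCycles i
      comm' := fun i j _ => by
        rw [Category.assoc, E.iCycles_d, comp_zero]
        exact zero_comp.symm }
  refine ⟨f, quasiIso_of_sections (fun _ _ => rfl) f s (fun _ => rfl) fun i => ?_⟩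
  have : IsIso (s i ≫ E.homologyπ i) := by
    rw [hs]
    infer_instance
  exact this

/-- A quasi-isomorphism between complexes with zero differentials is an isomorphism. -/
theorem isIso_f_of_quasiIso {K L : CochainComplex C ℤ} (f : K ⟶ L) [QuasiIso f]
    (hK : ∀ i j, K.d i j = 0) (hL : ∀ i j, L.d i j = 0) (i : ℤ) : IsIso (f.f i) := by
  have h1 : IsIso (K.iCycles i) := K.isIso_iCycles i (i + 1) (by simp) (hK _ _)
  have h2 : IsIso (K.homologyπ i) := K.isIso_homologyπ (i - 1) i (by simp) (hK _ _)
  have h3 : IsIso (L.iCycles i) := L.isIso_iCycles i (i + 1) (by simp) (hL _ _)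
  have h4 : IsIso (L.homologyπ i) := L.isIso_homologyπ (i - 1) i (by simp) (hL _ _)
  have h5 : IsIso (homologyMap f i) := by
    rw [← quasiIsoAt_iff_isIso_homologyMap]
    infer_instance
  have h6 : IsIso (cyclesMap f i) := by
    have h7 : cyclesMap f i = K.homologyπ i ≫ homologyMap f i ≫ inv (L.homologyπ i) := by
      rw [← Category.assoc, homologyπ_naturality, Category.assoc, IsIso.hom_inv_id,
        Category.comp_id]
    rw [h7]
    infer_instance
  have h8 : f.f i = inv (K.iCycles i) ≫ cyclesMap f i ≫ L.iCycles i := by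
    rw [cyclesMap_i, IsIso.inv_hom_id_assoc]
  rw [h8]
  infer_instance

end ZeroDiff

section Field

variable {κ : Type u} [Field κ] (C : CochainComplex (ModuleCat.{u} κ) ℤ)

/-- Dimension count: the differentials vanish. -/
theorem d_eq_zero (hf : ∀ i, Module.Finite κ (C.X i))
    (h : ∀ i, Module.finrank κ (C.X i) = Module.finrank κ (C.homology i)) (i j : ℤ) :
    C.d i j = 0 := by
  by_cases hij : i + 1 = j
  swap
  · exact C.shape i j hij
  subst hij
  have hfi := hf i
  have h1 : Function.Injective (C.iCycles i).hom := (ModuleCat.mono_iff_injective _).1 inferInstance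
  have hfc : Module.Finite κ (C.cycles i) := Module.Finite.of_injective _ h1
  have h2 : Function.Surjective (C.homologyπ i).hom :=
    (ModuleCat.epi_iff_surjective _).1 inferInstance
  have h3 : Module.finrank κ (C.homology i) ≤ Module.finrank κ (C.cycles i) :=
    LinearMap.finrank_le_finrank_of_surjective h2
  have h4 : Module.finrank κ (C.cycles i) ≤ Module.finrank κ (C.X i) :=
    LinearMap.finrank_le_finrank_of_injective h1
  have h5 : Module.finrank κ (C.cycles i) = Module.finrank κ (C.X i) := by
    have := h i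
    omega
  have h6 : Function.Surjective (C.iCycles i).hom :=
    (LinearMap.injective_iff_surjective_of_finrank_eq_finrank h5).1 h1
  have h7 : Epi (C.iCycles i) := (ModuleCat.epi_iff_surjective _).2 h6
  rw [← cancel_epi (C.iCycles i), C.iCycles_d, comp_zero]

end Field

section Main

open K229.LiftMod K229.LiftStab

variable {R : Type u} [CommRing R] (I : Ideal R) [hmax : I.IsMaximal]
  (hI : I ≤ Ideal.jacobson (⊥ : Ideal R))

/-- The reduction of a complex. -/
noncomputable abbrev redC : DRing.Cx R ⥤ DRing.Cx (R ⧸ I) :=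
  (red I).mapHomologicalComplex (ComplexShape.up ℤ)

lemma finrank_red [IsLocalRing R] (X : ModuleCat.{u} R) [Module.Free R X] :
    Module.finrank (R ⧸ I) ((red I).obj X) = Module.finrank R X := by
  have : Nontrivial (R ⧸ I) := Ideal.Quotient.nontrivial_iff.2 hmax.ne_top
  rw [← (redEquiv I X).finrank_eq, Module.finrank_baseChange]

omit hmax in
lemma finite_red (X : ModuleCat.{u} R) [Module.Finite R X] :
    Module.Finite (R ⧸ I) ((red I).obj X) :=
  Module.Finite.equiv (redEquiv I X)

/-- Cohomology of an object represented by a complex. -/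
noncomputable def homologyEquiv {A : Type u} [CommRing A] {C : DRing.Cx A} {K : Dual.D A}
    (e : DRing.toD C ≅ K) (i : ℤ) : Dual.HD A K i ≃ₗ[A] C.homology i :=
  ((DerivedCategory.homologyFunctor (ModuleCat.{u} A) i).mapIso e.symm ≪≫
    (DerivedCategory.homologyFunctorFactors (ModuleCat.{u} A) i).app C).toLinearEquiv

variable [DRing.HasLBaseChange (Ideal.Quotient.mk I)] {K : Dual.D R}

omit hmax in
lemma nonempty_red_iso (P : DRing.Cx R) (b : ℤ) (hb : DRing.VanishesAbove P b)
    (hP : ∀ i, Module.Projective R (P.X i)) (e : DRing.toD P ≅ K) :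
    Nonempty (DRing.toD ((redC I).obj P) ≅ (DRing.LBaseChange (Ideal.Quotient.mk I)).obj K) := by
  have : P.IsStrictlyLE b := (CochainComplex.isStrictlyLE_iff _ _).2 fun i hi => hb i hi
  have : ∀ i, Projective (P.X i) := fun i => (IsProjective.iff_projective (P.X i)).1 (hP i)
  have : P.IsKProjective := CochainComplex.isKProjective_of_projective P b
  exact ⟨(Groth.Agent.LoccohB.LBC.lbcQIso (Ideal.Quotient.mk I) P).symm ≪≫
    (DRing.LBaseChange (Ideal.Quotient.mk I)).mapIso e⟩

/-- Minimal complexes of finite free modules. -/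
structure Minimal (K : Dual.D R) (P : DRing.Cx R) : Prop where
  bdd : ∃ b : ℤ, DRing.VanishesAbove P b
  term : ∀ i : ℤ, Module.Free R (P.X i) ∧ Module.Finite R (P.X i) ∧
    Module.finrank R (P.X i) = Module.finrank (R ⧸ I)
      (Dual.HD (R ⧸ I) ((DRing.LBaseChange (Ideal.Quotient.mk I)).obj K) i)
  rep : Nonempty (DRing.toD P ≅ K)

lemma red_d_eq_zero [IsLocalRing R] {P : DRing.Cx R} (hP : Minimal I K P) (i j : ℤ) :
    ((redC I).obj P).d i j = 0 := by
  let _ : Field (R ⧸ I) := Ideal.Quotient.field I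
  obtain ⟨⟨b, hb⟩, h1, ⟨e⟩⟩ := hP
  obtain ⟨e'⟩ := nonempty_red_iso I P b hb (fun i => by
    have := (h1 i).1
    infer_instance) e
  refine d_eq_zero ((redC I).obj P) (fun i => ?_) (fun i => ?_) i j
  · have := (h1 i).2.1
    exact finite_red I (P.X i)
  · have := (h1 i).1
    exact (finrank_red I (P.X i)).trans ((h1 i).2.2.trans (homologyEquiv e' i).finrank_eq)

include hI in
theorem nonempty_iso_of_minimal [IsLocalRing R] {P Q : DRing.Cx R} (hP : Minimal I K P)
    (hQ : Minimal I K Q) : Nonempty (P ≅ Q) := by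
  have hdP := red_d_eq_zero I hP
  have hdQ := red_d_eq_zero I hQ
  obtain ⟨⟨b, hb⟩, h1, ⟨e⟩⟩ := hP
  obtain ⟨⟨c, hc⟩, h2, ⟨e'⟩⟩ := hQ
  have hbP : P.IsStrictlyLE b := (CochainComplex.isStrictlyLE_iff _ _).2 fun i hi => hb i hi
  have hprojP : ∀ i, Projective (P.X i) := fun i => by
    have := (h1 i).1
    exact (IsProjective.iff_projective (P.X i)).1 inferInstance
  have hKP : P.IsKProjective := CochainComplex.isKProjective_of_projective P b
  obtain ⟨f, hf⟩ := K228.Basic.exists_Q_map (e ≪≫ e'.symm).hom
  have hqf : QuasiIso f := by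
    rw [← DerivedCategory.isIso_Q_map_iff_quasiIso, hf]
    infer_instance
  have hq : QuasiIso ((redC I).map f) :=
    K227.LbcFlat.quasiIso_ext (Ideal.Quotient.mk I) f (max b c)
      (fun i hi => hb i (lt_of_le_of_lt (le_max_left _ _) hi))
      (fun i hi => hc i (lt_of_le_of_lt (le_max_right _ _) hi))
      (fun i => by have := (h1 i).1; infer_instance)
      (fun i => by have := (h2 i).1; infer_instance)
  have hiso : ∀ i, IsIso (f.f i) := fun i => by
    have h3 : IsIso ((red I).map (f.f i)) :=
      isIso_f_of_quasiIso ((redC I).map f) hdP hdQ i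
    have := (h1 i).1
    have := (h2 i).1
    exact (liftClass_stab I hI).isIso_of_map
      (show stab R (P.X i) from ⟨(h1 i).2.1, inferInstance⟩)
      (show stab R (Q.X i) from ⟨(h2 i).2.1, inferInstance⟩) (f.f i) h3
  exact ⟨HomologicalComplex.Hom.isoOfComponents (fun i => @asIso _ _ _ _ (f.f i) (hiso i))
    (fun i j _ => f.comm i j)⟩

include hI in
theorem main [IsLocalRing R] (hK : DRing.IsPseudoCoherent' R K) :
    (∀ i : ℤ, Module.Finite (R ⧸ I)
      (Dual.HD (R ⧸ I) ((DRing.LBaseChange (Ideal.Quotient.mk I)).obj K) i)) ∧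
    (∃ b : ℤ, ∀ i : ℤ, b < i → Subsingleton
      (Dual.HD (R ⧸ I) ((DRing.LBaseChange (Ideal.Quotient.mk I)).obj K) i)) ∧
    ∃ P, Minimal I K P := by
  let _ : Field (R ⧸ I) := Ideal.Quotient.field I
  have hK' := hK
  obtain ⟨Q, c, hQ, hQ', ⟨eQ⟩⟩ := hK
  obtain ⟨e⟩ := nonempty_red_iso I Q c hQ (fun i => by
    have := (hQ' i).2
    infer_instance) eQ
  let C : DRing.Cx (R ⧸ I) := (redC I).obj Q
  have hCf : ∀ i, Module.Finite (R ⧸ I) (C.X i) := fun i => by
    have := (hQ' i).1
    exact finite_red I (Q.X i)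
  have hCz : ∀ i, c < i → IsZero (C.X i) := fun i hi => (red I).map_isZero (hQ i hi)
  have hHf : ∀ i, Module.Finite (R ⧸ I) (C.homology i) := fun i => by
    have := hCf i
    have h1 : Module.Finite (R ⧸ I) (C.cycles i) :=
      Module.Finite.of_injective _ ((ModuleCat.mono_iff_injective (C.iCycles i)).1 inferInstance)
    exact Module.Finite.of_surjective _
      ((ModuleCat.epi_iff_surjective (C.homologyπ i)).1 inferInstance)
  have hHz : ∀ i, c < i → IsZero (C.homology i) := fun i hi => by
    rw [← HomologicalComplex.exactAt_iff_isZero_homology]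
    exact HomologicalComplex.ExactAt.of_isZero (hCz i hi)
  obtain ⟨f, hf⟩ := exists_quasiIso_hCx C (fun i =>
    (IsProjective.iff_projective (C.homology i)).1 inferInstance)
  have eH : DRing.toD (hCx C) ≅ (DRing.LBaseChange (Ideal.Quotient.mk I)).obj K :=
    asIso (DerivedCategory.Q.map f) ≪≫ e
  obtain ⟨P, b', h1, h2, h3, ⟨h4⟩, h5⟩ := K229.LiftStab.exists_lift I hI K hK' (hCx C) c
    (fun i hi => hHz i hi) (fun i => ⟨hHf i, by
      have : Module.Free (R ⧸ I) ((hCx C).X i) :=
        inferInstanceAs (Module.Free (R ⧸ I) (C.homology i))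
      infer_instance⟩) ⟨eH⟩
  refine ⟨fun i => ?_, ⟨c, fun i hi => ?_⟩, P, ⟨b', h1⟩, fun i => ?_, h3⟩
  · have := hHf i
    exact Module.Finite.equiv (homologyEquiv e i).symm
  · have := ModuleCat.subsingleton_of_isZero (hHz i hi)
    exact (homologyEquiv e i).toEquiv.subsingleton
  · have h6 : Module.Free R (P.X i) := h5 i
      (inferInstanceAs (Module.Free (R ⧸ I) (C.homology i)))
    refine ⟨h6, (h2 i).1, ?_⟩
    let e5 : (red I).obj (P.X i) ≅ (hCx C).X i := (HomologicalComplex.eval _ _ i).mapIso h4
    exact (finrank_red I (P.X i)).symm.trans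
      (e5.toLinearEquiv.finrank_eq.trans (homologyEquiv e i).finrank_eq.symm)

end Main

end K228.MinFree
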