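import Groth.Agent.DRing.K228.ToSingle
import Groth.Agent.LoccohB.PCNoeth
import Mathlib.RingTheory.Filtration

/-!
# Maps to finite torsion modules, nonzero on cohomology
-/

set_option autoImplicit false

universe u

open CategoryTheory CategoryTheory.Limits CategoryTheory.Pretriangulated HomologicalComplex

attribute [local instance] HasDerivedCategory.standard

namespace K228.NonzeroHom

open DerivedCategory

variable {A : Type u} [CommRing A]

/-- `H^i(M[-i]) = M`, naturally in `M`. -/
noncomputable def hShift (i : ℤ) :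
    singleFunctor (ModuleCat.{u} A) 0 ⋙ shiftFunctor (Dual.D A) (-i) ⋙
      DerivedCategory.homologyFunctor (ModuleCat.{u} A) i ≅ 𝟭 (ModuleCat.{u} A) :=
  (Functor.associator _ _ _).symm ≪≫
    Functor.isoWhiskerRight ((singleFunctors (ModuleCat.{u} A)).shiftIso (-i) i 0 (by omega)) _ ≪≫
    singleFunctorCompHomologyFunctorIso (ModuleCat.{u} A) i

/-- Artin–Rees: if `N ≤ M` and `m • N ≠ N` then `N` is not contained in some `m^n M`. -/
lemma exists_not_le [IsNoetherianRing A] (M : Type u) [AddCommGroup M] [Module A M]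
    [Module.Finite A M] (m : Ideal A) (N : Submodule A M) (hN : m • N ≠ N) :
    ∃ n : ℕ, ¬ N ≤ m ^ n • (⊤ : Submodule A M) := by
  obtain ⟨k, hk⟩ := m.exists_pow_inf_eq_pow_smul N
  refine ⟨k + 1, fun h => hN ?_⟩
  refine le_antisymm Submodule.smul_le_right ?_
  have h1 := hk (k + 1) (by omega)
  rw [inf_eq_right.2 h, Nat.add_sub_cancel_left, pow_one] at h1
  calc N = m • (m ^ k • ⊤ ⊓ N) := h1
    _ ≤ m • N := Submodule.smul_mono le_rfl inf_le_right

/-- A map to a finitely generated `m`-power torsion module, nonzero on `H^i`. -/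
theorem exists_nonzero [IsNoetherianRing A] (K : Dual.D A)
    (hb : ∃ b : ℤ, ∀ j : ℤ, b < j → Subsingleton (Dual.HD A K j))
    (hfin : ∀ j : ℤ, Module.Finite A (Dual.HD A K j)) (m : Ideal A) (i : ℤ)
    (hi : m • (⊤ : Submodule A (Dual.HD A K i)) ≠ ⊤) :
    ∃ (E : Type u) (_ : AddCommGroup E) (_ : Module A E) (_ : Module.Finite A E) (n : ℕ)
      (_ : m ^ n • (⊤ : Submodule A E) = ⊥)
      (f : K ⟶ (shiftFunctor (Dual.D A) (-i)).obj (Dual.inD A E)),
      (DerivedCategory.homologyFunctor (ModuleCat.{u} A) i).map f ≠ 0 := by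
  obtain ⟨b, hb⟩ := hb
  obtain ⟨E, b', -, hE, ⟨e⟩⟩ :=
    Groth.Agent.LoccohB.PCNoeth.isPseudoCoherent'_of_noetherian' K b hb hfin
  obtain ⟨f, hf⟩ := K228.ToSingle.exists_mono_hom K E e i
  have hM := K228.ToSingle.finitePresentation_opcycles E hE i
  let M : ModuleCat.{u} A := E.opcycles i
  have hMf : Module.Finite A M := inferInstance
  let g : (DerivedCategory.homologyFunctor (ModuleCat.{u} A) i).obj K ⟶ M :=
    (DerivedCategory.homologyFunctor (ModuleCat.{u} A) i).map f ≫ (hShift i).hom.app M
  have hg : Function.Injective g.hom := by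
    have : Mono g := @mono_comp _ _ _ _ _ _ hf _ inferInstance
    exact (ModuleCat.mono_iff_injective g).1 this
  have hN : m • LinearMap.range g.hom ≠ LinearMap.range g.hom := by
    intro h
    apply hi
    refine Submodule.map_injective_of_injective hg ?_
    rw [Submodule.map_smul'', Submodule.map_top]
    exact h
  obtain ⟨n, hn⟩ := exists_not_le M m _ hN
  let E' := M ⧸ (m ^ n • (⊤ : Submodule A M))
  let π : M ⟶ ModuleCat.of A E' := ModuleCat.ofHom (Submodule.mkQ _)
  refine ⟨E', inferInstance, inferInstance, inferInstance, n, ?_,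
    f ≫ ((singleFunctor (ModuleCat.{u} A) 0).map π)⟦-i⟧', ?_⟩
  · rw [← Submodule.range_mkQ (m ^ n • (⊤ : Submodule A M)), LinearMap.range_eq_map,
      ← Submodule.map_smul'', Submodule.mkQ_map_self]
  · intro h0
    apply hn
    rw [Functor.map_comp] at h0
    have h1 : g ≫ π = 0 := by
      have h2 := (hShift (A := A) i).hom.naturality π
      calc g ≫ π = (DerivedCategory.homologyFunctor (ModuleCat.{u} A) i).map f ≫
            ((hShift i).hom.app M ≫ π) := Category.assoc _ _ _
        _ = (DerivedCategory.homologyFunctor (ModuleCat.{u} A) i).map f ≫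
            ((DerivedCategory.homologyFunctor (ModuleCat.{u} A) i).map
              (((singleFunctor (ModuleCat.{u} A) 0).map π)⟦-i⟧') ≫ (hShift i).hom.app _) :=
            congrArg _ h2.symm
        _ = ((DerivedCategory.homologyFunctor (ModuleCat.{u} A) i).map f ≫
            (DerivedCategory.homologyFunctor (ModuleCat.{u} A) i).map
              (((singleFunctor (ModuleCat.{u} A) 0).map π)⟦-i⟧')) ≫ (hShift i).hom.app _ :=
            (Category.assoc _ _ _).symm
        _ = 0 := by rw [h0]; exact zero_comp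
    rintro _ ⟨x, rfl⟩
    have h3 : π.hom (g.hom x) = 0 := congr($(h1).hom x)
    exact (Submodule.Quotient.mk_eq_zero _).1 h3

end K228.NonzeroHom
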