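import Groth.Agent.DRing.K228.TorQuot2
import Groth.Agent.LoccohB.LBC2
import Groth.Agent.LoccohB.FlatLBC
import Groth.Agent.LoccohB.BCStep3
import Groth.Agent.S2066
import Mathlib.LinearAlgebra.TensorProduct.Quotient

/-!
# Perfectness via quotients by ideals `I`, `J` with `I J = 0`, and by nilpotent ideals
-/

set_option autoImplicit false

universe u

open CategoryTheory CategoryTheory.Limits CategoryTheory.Pretriangulated TensorProduct

attribute [local instance] HasDerivedCategory.standard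

namespace K228.PerfQuot

open DerivedCategory Groth.Agent.LoccohB K228.TorQuot

section Fin

variable {R : Type u} [CommRing R] {M : Type u} [AddCommGroup M] [Module R M]

lemma exists_fg_sup (P : Submodule R M) (h : Module.Finite R (M ⧸ P)) :
    ∃ N : Submodule R M, N.FG ∧ N ⊔ P = ⊤ := by
  obtain ⟨n, f, hf⟩ := Module.Finite.exists_fin' R (M ⧸ P)
  obtain ⟨g, hg⟩ := Module.projective_lifting_property P.mkQ f (Submodule.mkQ_surjective P)
  refine ⟨LinearMap.range g, Submodule.fg_range g, ?_⟩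
  rw [eq_top_iff]
  intro m _
  obtain ⟨x, hx⟩ := hf (P.mkQ m)
  have h1 : P.mkQ (m - g x) = 0 := by
    rw [map_sub, ← hx, ← hg, LinearMap.comp_apply, sub_self]
  rw [Submodule.mkQ_apply, Submodule.Quotient.mk_eq_zero] at h1
  have h2 : m = g x + (m - g x) := by abel
  rw [h2]
  exact Submodule.add_mem_sup ⟨x, rfl⟩ h1

lemma sup_mul (N : Submodule R M) (I J : Ideal R) (hI : N ⊔ I • (⊤ : Submodule R M) = ⊤)
    (hJ : N ⊔ J • (⊤ : Submodule R M) = ⊤) : N ⊔ (I * J) • (⊤ : Submodule R M) = ⊤ := by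
  have h1 : I • (⊤ : Submodule R M) ≤ N ⊔ (I * J) • (⊤ : Submodule R M) := by
    conv_lhs => rw [← hJ, Submodule.smul_sup, ← Submodule.mul_smul]
    exact sup_le_sup_right Submodule.smul_le_right _
  exact eq_top_iff.2 (hI.ge.trans (sup_le le_sup_left h1))

lemma sup_pow (N : Submodule R M) (I : Ideal R) (hI : N ⊔ I • (⊤ : Submodule R M) = ⊤) (n : ℕ) :
    N ⊔ (I ^ n) • (⊤ : Submodule R M) = ⊤ := by
  induction n with
  | zero => rw [pow_zero, Ideal.one_eq_top, Submodule.top_smul, sup_top_eq]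
  | succ n ih => rw [pow_succ]; exact sup_mul N (I ^ n) I ih hI

/-- Finiteness modulo the kernel of a surjection. -/
lemma finite_quot {A : Type u} [CommRing A] [Algebra R A]
    (hs : Function.Surjective (algebraMap R A)) (M : ModuleCat.{u} R)
    (h : Module.Finite A ((ModuleCat.extendScalars.{u, u, u} (algebraMap R A)).obj M)) :
    Module.Finite R (M ⧸ (RingHom.ker (algebraMap R A) • (⊤ : Submodule R M))) := by
  have h1 : Module.Finite A (A ⊗[R] M) := Module.Finite.equiv (FlatLBC.extEquiv R A M).symm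
  have h2 : Module.Finite R A :=
    Module.Finite.of_surjective (Algebra.linearMap R A) hs
  have h3 : Module.Finite R (A ⊗[R] M) := Module.Finite.trans A (A ⊗[R] M)
  let e1 : (R ⧸ RingHom.ker (algebraMap R A)) ≃ₗ[R] A :=
    (Ideal.quotientKerAlgEquivOfSurjective (f := Algebra.ofId R A) hs).toLinearEquiv
  exact Module.Finite.equiv ((LinearEquiv.rTensor M e1).symm ≪≫ₗ
    TensorProduct.quotTensorEquivQuotSMul M (RingHom.ker (algebraMap R A)))

end Fin

section Main

variable {R : Type u} [CommRing R] {K : Dual.D R}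

theorem finite_of_mul (I J : Ideal R) (hIJ : I * J = ⊥) (M : ModuleCat.{u} R)
    (hI : Module.Finite (R ⧸ I) ((ModuleCat.extendScalars.{u, u, u} (Ideal.Quotient.mk I)).obj M))
    (hJ : Module.Finite (R ⧸ J) ((ModuleCat.extendScalars.{u, u, u} (Ideal.Quotient.mk J)).obj M)) :
    Module.Finite R M := by
  have h1 := finite_quot (A := R ⧸ I) Ideal.Quotient.mk_surjective M hI
  have h2 := finite_quot (A := R ⧸ J) Ideal.Quotient.mk_surjective M hJ
  rw [ker_mk] at h1 h2
  obtain ⟨N₁, hN₁, h3⟩ := exists_fg_sup _ h1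
  obtain ⟨N₂, hN₂, h4⟩ := exists_fg_sup _ h2
  have h5 := sup_mul (N₁ ⊔ N₂) I J
    (eq_top_iff.2 (h3.ge.trans (sup_le_sup_right le_sup_left _)))
    (eq_top_iff.2 (h4.ge.trans (sup_le_sup_right le_sup_right _)))
  rw [hIJ, Submodule.bot_smul, sup_bot_eq] at h5
  exact ⟨h5 ▸ hN₁.sup hN₂⟩

theorem finite_of_nilpotent {A : Type u} [CommRing A] (φ : R →+* A) (hφ : Function.Surjective φ)
    (hnil : IsNilpotent (RingHom.ker φ)) (M : ModuleCat.{u} R)
    (h : Module.Finite A ((ModuleCat.extendScalars.{u, u, u} φ).obj M)) :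
    Module.Finite R M := by
  let _ := φ.toAlgebra
  have h1 := finite_quot (A := A) hφ M h
  obtain ⟨N, hN, h3⟩ := exists_fg_sup _ h1
  obtain ⟨n, hn⟩ := hnil
  have h5 := sup_pow N (RingHom.ker φ) h3 n
  rw [hn, Ideal.zero_eq_bot, Submodule.bot_smul, sup_bot_eq] at h5
  exact ⟨h5 ▸ hN⟩

/-- Pseudo-coherence and nilpotent ideals. -/
theorem pc_of_nilpotent {A : Type u} [CommRing A] (φ : R →+* A) (hφ : Function.Surjective φ)
    (hnil : IsNilpotent (RingHom.ker φ)) [DRing.HasLBaseChange φ] (m : ℤ)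
    (h : DRing.IsPseudoCoherent A m ((DRing.LBaseChange φ).obj K)) :
    DRing.IsPseudoCoherent R m K := by
  obtain ⟨b, hb⟩ := ((Groth.Agent.CalgB.PsCoh.isPseudoCoherent_iff _ _).1 h).exists_isLE
  have h1 : K.IsLE b := isLE_of_nilpotent φ hφ hnil hb
  exact K228.PcQuot.pc_of_family (ι := PUnit.{1}) (fun _ => A) (fun _ => φ)
    (fun M hM => finite_of_nilpotent φ hφ hnil M (hM PUnit.unit)) m b K h1 (fun _ => h)

theorem pc'_of_nilpotent {A : Type u} [CommRing A] (φ : R →+* A) (hφ : Function.Surjective φ)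
    (hnil : IsNilpotent (RingHom.ker φ)) [DRing.HasLBaseChange φ]
    (h : DRing.IsPseudoCoherent' A ((DRing.LBaseChange φ).obj K)) :
    DRing.IsPseudoCoherent' R K :=
  (Groth.Agent.S2066.result K).1.1 fun m =>
    pc_of_nilpotent φ hφ hnil m ((Groth.Agent.S2066.result _).1.2 h m)

/-- Perfectness and nilpotent ideals. -/
theorem isPerfect_of_nilpotent {A : Type u} [CommRing A] (φ : R →+* A)
    (hφ : Function.Surjective φ)
    (hnil : IsNilpotent (RingHom.ker φ)) [DRing.HasLBaseChange φ]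
    (h : DRing.IsPerfect A ((DRing.LBaseChange φ).obj K)) : DRing.IsPerfect R K := by
  obtain ⟨h1, a, b, h2⟩ := K227.PerfFlat.isPerfect_iff.1 h
  exact K227.PerfFlat.isPerfect_iff.2 ⟨pc'_of_nilpotent φ hφ hnil h1, a, b,
    torAmp_of_nilpotent φ hφ hnil h2⟩

/-- The quotients by the two ideals. -/
abbrev idl (I J : Ideal R) : Bool → Ideal R := fun b => bif b then I else J

theorem isPerfect_of_mul (I J : Ideal R) (hIJ : I * J = ⊥)
    [DRing.HasLBaseChange (Ideal.Quotient.mk I)] [DRing.HasLBaseChange (Ideal.Quotient.mk J)]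
    (hI : DRing.IsPerfect (R ⧸ I) ((DRing.LBaseChange (Ideal.Quotient.mk I)).obj K))
    (hJ : DRing.IsPerfect (R ⧸ J) ((DRing.LBaseChange (Ideal.Quotient.mk J)).obj K)) :
    DRing.IsPerfect R K := by
  obtain ⟨h1, a, b, h2⟩ := K227.PerfFlat.isPerfect_iff.1 hI
  obtain ⟨h3, a', b', h4⟩ := K227.PerfFlat.isPerfect_iff.1 hJ
  have h5 : DRing.HasTorAmplitudeIn R (min a a') (max b b') K :=
    torAmp_of_mul I J hIJ
      (K227.PerfFlat.torAmp_mono (min_le_left _ _) (le_max_left _ _) h2)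
      (K227.PerfFlat.torAmp_mono (min_le_right _ _) (le_max_right _ _) h4)
  have h6 : K.IsLE (max b b') := K228.Basic.isLE_of_subsingleton K _ fun i hi =>
    K227.PerfFlat.subsingleton_HD_of_torAmp h5 i (Or.inr hi)
  refine K227.PerfFlat.isPerfect_iff.2 ⟨(Groth.Agent.S2066.result K).1.1 fun m => ?_, _, _, h5⟩
  have hLB : ∀ j : Bool, DRing.HasLBaseChange (Ideal.Quotient.mk (idl I J j)) := fun j =>
    LBC.hasLBaseChange _
  refine K228.PcQuot.pc_of_family (ι := Bool) (fun j => R ⧸ idl I J j)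
    (fun j => Ideal.Quotient.mk (idl I J j))
    (fun M hM => finite_of_mul I J hIJ M (hM true) (hM false)) m _ K h6 (fun j => ?_)
  cases j with
  | true => exact (Groth.Agent.S2066.result _).1.2 h1 m
  | false => exact (Groth.Agent.S2066.result _).1.2 h3 m

/-- `R/I` and `R/J` versus `R/IJ`. -/
theorem isPerfect_quot_mul (I J : Ideal R)
    [DRing.HasLBaseChange (Ideal.Quotient.mk I)] [DRing.HasLBaseChange (Ideal.Quotient.mk J)]
    [DRing.HasLBaseChange (Ideal.Quotient.mk (I * J))]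
    (hI : DRing.IsPerfect (R ⧸ I) ((DRing.LBaseChange (Ideal.Quotient.mk I)).obj K))
    (hJ : DRing.IsPerfect (R ⧸ J) ((DRing.LBaseChange (Ideal.Quotient.mk J)).obj K)) :
    DRing.IsPerfect (R ⧸ (I * J)) ((DRing.LBaseChange (Ideal.Quotient.mk (I * J))).obj K) := by
  have key : ∀ (L : Ideal R) [DRing.HasLBaseChange (Ideal.Quotient.mk L)]
      [DRing.HasLBaseChange (Ideal.Quotient.mk (L.map (Ideal.Quotient.mk (I * J))))]
      (_ : DRing.IsPerfect (R ⧸ L) ((DRing.LBaseChange (Ideal.Quotient.mk L)).obj K)),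
      DRing.IsPerfect ((R ⧸ (I * J)) ⧸ L.map (Ideal.Quotient.mk (I * J)))
        ((DRing.LBaseChange (Ideal.Quotient.mk (L.map (Ideal.Quotient.mk (I * J))))).obj
          ((DRing.LBaseChange (Ideal.Quotient.mk (I * J))).obj K)) := by
    intro L _ _ hL
    let ψ : R ⧸ L →+* (R ⧸ (I * J)) ⧸ L.map (Ideal.Quotient.mk (I * J)) :=
      Ideal.quotientMap (L.map (Ideal.Quotient.mk (I * J))) (Ideal.Quotient.mk (I * J))
        Ideal.le_comap_map
    have hψ : DRing.HasLBaseChange ψ := LBC.hasLBaseChange ψ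
    let χ := (Ideal.Quotient.mk (L.map (Ideal.Quotient.mk (I * J)))).comp
      (Ideal.Quotient.mk (I * J))
    have hχ : DRing.HasLBaseChange χ := LBC.hasLBaseChange χ
    have hc : χ = ψ.comp (Ideal.Quotient.mk L) := (Ideal.quotientMap_comp_mk _).symm
    refine PerfTri.isPerfect_of_iso ?_ (BCStep3.isPerfect_lbc (φ := ψ) hL)
    exact (LBC.lbcComp (Ideal.Quotient.mk L) ψ χ hc).app K ≪≫
      ((LBC.lbcComp (Ideal.Quotient.mk (I * J))
        (Ideal.Quotient.mk (L.map (Ideal.Quotient.mk (I * J)))) χ rfl).app K).symm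
  have h1 := LBC.hasLBaseChange (Ideal.Quotient.mk (I.map (Ideal.Quotient.mk (I * J))))
  have h2 := LBC.hasLBaseChange (Ideal.Quotient.mk (J.map (Ideal.Quotient.mk (I * J))))
  refine isPerfect_of_mul (I.map (Ideal.Quotient.mk (I * J))) (J.map (Ideal.Quotient.mk (I * J)))
    ?_ (key I hI) (key J hJ)
  rw [← Ideal.map_mul, Ideal.map_quotient_self]

end Main

end K228.PerfQuot
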