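import Groth.Agent.DRing.K228.FlatBC
import Groth.Agent.LoccohB.LBC2
import Mathlib.Algebra.Polynomial.Inductions
import Mathlib.Algebra.Homology.DerivedCategory.ShortExact
import Mathlib.LinearAlgebra.TensorProduct.RightExactness

/-!
# `M` over `R[X]` (through `X ↦ 0`) as the cone of `X` on `M[X]`
-/

set_option autoImplicit false

universe u

open CategoryTheory CategoryTheory.Limits CategoryTheory.Pretriangulated TensorProduct

attribute [local instance] HasDerivedCategory.standard

namespace K228.PolyCone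

open DerivedCategory Groth.Agent.LoccohB K228.FlatBC

section Alg

variable (R : Type u) [CommRing R] (M : Type u) [AddCommGroup M] [Module R M]

open Polynomial

/-- Multiplication by `X`. -/
noncomputable def mulX : R[X] →ₗ[R] R[X] := LinearMap.mulLeft R X

lemma mulX_apply (p : R[X]) : mulX R p = X * p := rfl

/-- `divX` as a linear map. -/
noncomputable def divXL : R[X] →ₗ[R] R[X] where
  toFun := divX
  map_add' p q := by
    ext n
    simp only [coeff_divX, coeff_add]
  map_smul' a p := by
    ext n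
    simp only [coeff_divX, coeff_smul, RingHom.id_apply]

lemma divXL_apply (p : R[X]) : divXL R p = divX p := rfl

/-- Evaluation at zero. -/
noncomputable def ev : R[X] →ₗ[R] R := (aeval (0 : R)).toLinearMap

lemma divXL_mulX : divXL R ∘ₗ mulX R = LinearMap.id := by
  refine LinearMap.ext fun p => ?_
  rw [LinearMap.comp_apply, mulX_apply, divXL_apply, LinearMap.id_apply]
  ext n
  rw [coeff_divX, coeff_X_mul]

lemma ev_apply (p : R[X]) : ev R p = p.coeff 0 := by
  change aeval (0 : R) p = _
  rw [coeff_zero_eq_aeval_zero]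

lemma exact_mulX_ev : Function.Exact (mulX R) (ev R) := by
  intro p
  rw [ev_apply, ← X_dvd_iff]
  constructor
  · rintro ⟨q, hq⟩
    exact ⟨q, hq.symm⟩
  · rintro ⟨q, hq⟩
    exact ⟨q, hq.symm⟩

lemma ev_surjective : Function.Surjective (ev R) := fun r => ⟨C r, by
  change aeval (0 : R) (C r) = r
  simp⟩

lemma rTensor_injective : Function.Injective ((mulX R).rTensor M) := by
  apply Function.LeftInverse.injective (g := (divXL R).rTensor M)
  intro t
  rw [← LinearMap.comp_apply, ← LinearMap.rTensor_comp, divXL_mulX, LinearMap.rTensor_id]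
  rfl

lemma rTensor_exact : Function.Exact ((mulX R).rTensor M) ((ev R).rTensor M) :=
  _root_.rTensor_exact M (exact_mulX_ev R) (ev_surjective R)

end Alg

variable (R : Type u) [CommRing R]

/-- The inclusion of constants. -/
noncomputable abbrev ι : R →+* Polynomial R := algebraMap R (Polynomial R)

/-- `X ↦ 0`. -/
noncomputable abbrev φ : Polynomial R →+* R := Polynomial.evalRingHom (0 : R)

/-- `R[X] ⊗ M → M` on elements. -/
noncomputable def pLin₀ (M : ModuleCat.{u} R) :
    Polynomial R ⊗[R] M →ₗ[Polynomial R] (ModuleCat.restrictScalars.{u} (φ R)).obj M where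
  toFun t := TensorProduct.lid R M ((ev R).rTensor M t)
  map_add' x y := by
    rw [map_add, map_add]
    rfl
  map_smul' p t := by
    induction t using TensorProduct.induction_on with
    | zero =>
      rw [smul_zero, map_zero, map_zero]
      exact (smul_zero (A := M) ((φ R) p)).symm
    | tmul q m =>
      rw [smul_tmul', LinearMap.rTensor_tmul, LinearMap.rTensor_tmul, lid_tmul, lid_tmul]
      change (Polynomial.aeval (0 : R) (p * q)) • m =
        (Polynomial.eval (0 : R) p) • (Polynomial.aeval (0 : R) q) • (m : M)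
      rw [map_mul, mul_smul]
      rfl
    | add x y hx hy =>
      rw [smul_add, map_add, map_add, hx, hy, map_add, map_add]
      exact (smul_add (A := M) ((φ R) p) _ _).symm

lemma pLin₀_tmul (M : ModuleCat.{u} R) (p : Polynomial R) (m : M) :
    pLin₀ R M (p ⊗ₜ m) = ((Polynomial.eval (0 : R) p • m : M)) := rfl

/-- `M[X] → M`. -/
noncomputable def pLin (M : ModuleCat.{u} R) :
    (ModuleCat.extendScalars.{u, u, u} (ι R)).obj M ⟶ (ModuleCat.restrictScalars.{u} (φ R)).obj M :=
  (FlatLBC.extEquiv R (Polynomial R) M).toModuleIso.inv ≫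
    @ModuleCat.ofHom (Polynomial R) _ (Polynomial R ⊗[R] M)
      ((ModuleCat.restrictScalars.{u} (φ R)).obj M) _ _ _
      ((ModuleCat.restrictScalars.{u} (φ R)).obj M).isModule (pLin₀ R M)

lemma pLin_apply (M : ModuleCat.{u} R) (t : Polynomial R ⊗[R] M) :
    (pLin R M).hom (FlatLBC.extEquiv R (Polynomial R) M t) = pLin₀ R M t :=
  congrArg (pLin₀ R M) ((FlatLBC.extEquiv R (Polynomial R) M).symm_apply_apply t)

/-- `M[X] → M` as a natural transformation. -/
noncomputable def pNat : ModuleCat.extendScalars.{u, u, u} (ι R) ⟶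
    ModuleCat.restrictScalars.{u} (φ R) where
  app M := pLin R M
  naturality M N f := by
    refine ModuleCat.hom_ext (LinearMap.ext fun t => ?_)
    obtain ⟨t, rfl⟩ := (FlatLBC.extEquiv R (Polynomial R) M).surjective t
    induction t using TensorProduct.induction_on with
    | zero => rw [map_zero, map_zero, map_zero]
    | tmul q m =>
      have h1 : ((ModuleCat.extendScalars.{u, u, u} (ι R)).map f).hom
          (FlatLBC.extEquiv R (Polynomial R) M (q ⊗ₜ m)) =
            FlatLBC.extEquiv R (Polynomial R) N (q ⊗ₜ f.hom m) := rfl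
      rw [ModuleCat.hom_comp, LinearMap.comp_apply, h1, ModuleCat.hom_comp, LinearMap.comp_apply]
      refine (pLin_apply R N _).trans (Eq.trans ?_
        (congrArg (((ModuleCat.restrictScalars.{u} (φ R)).map f).hom)
        (pLin_apply R M (q ⊗ₜ m))).symm)
      exact (f.hom.map_smul _ _).symm
    | add x y hx hy => rw [map_add, map_add, hx, hy, map_add]

lemma X_smul (M : ModuleCat.{u} R) (t : Polynomial R ⊗[R] M) :
    (Polynomial.X : Polynomial R) • FlatLBC.extEquiv R (Polynomial R) M t =
      FlatLBC.extEquiv R (Polynomial R) M ((mulX R).rTensor M t) := by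
  rw [← map_smul]
  congr 1

/-- Multiplication by `X`. -/
noncomputable abbrev Xm {C : Type*} [Category* C] [Preadditive C]
    [CategoryTheory.Linear (Polynomial R) C] (Y : C) : Y ⟶ Y := (Polynomial.X : Polynomial R) • 𝟙 Y

lemma Xm_apply (M : ModuleCat.{u} R) (t : Polynomial R ⊗[R] M) :
    (Xm R ((ModuleCat.extendScalars.{u, u, u} (ι R)).obj M)).hom
      (FlatLBC.extEquiv R (Polynomial R) M t) =
      FlatLBC.extEquiv R (Polynomial R) M ((mulX R).rTensor M t) := by
  rw [← X_smul]
  rfl

lemma Xm_comp_p (M : ModuleCat.{u} R) :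
    Xm R ((ModuleCat.extendScalars.{u, u, u} (ι R)).obj M) ≫ (pNat R).app M = 0 := by
  refine ModuleCat.hom_ext (LinearMap.ext fun t => ?_)
  obtain ⟨t, rfl⟩ := (FlatLBC.extEquiv R (Polynomial R) M).surjective t
  rw [ModuleCat.hom_comp, LinearMap.comp_apply, Xm_apply]
  refine (pLin_apply R M _).trans ?_
  change TensorProduct.lid R M ((ev R).rTensor M ((mulX R).rTensor M t)) = 0
  rw [(rTensor_exact R M).apply_apply_eq_zero]
  exact map_zero _

theorem shortExact (M : ModuleCat.{u} R) :
    (ShortComplex.mk _ _ (Xm_comp_p R M)).ShortExact where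
  exact := by
    rw [ShortComplex.moduleCat_exact_iff]
    intro t ht
    obtain ⟨t, rfl⟩ := (FlatLBC.extEquiv R (Polynomial R) M).surjective t
    have h1 : (pLin₀ R M) t = 0 := (pLin_apply R M t).symm.trans ht
    have h2 : (ev R).rTensor M t = 0 := (TensorProduct.lid R M).injective (h1.trans (map_zero _).symm)
    obtain ⟨t', rfl⟩ := (rTensor_exact R M t).1 h2
    exact ⟨FlatLBC.extEquiv R (Polynomial R) M t', Xm_apply R M t'⟩
  mono_f := by
    rw [ModuleCat.mono_iff_injective]
    intro x y h
    obtain ⟨x, rfl⟩ := (FlatLBC.extEquiv R (Polynomial R) M).surjective x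
    obtain ⟨y, rfl⟩ := (FlatLBC.extEquiv R (Polynomial R) M).surjective y
    have h1 := (Xm_apply R M x).symm.trans (h.trans (Xm_apply R M y))
    exact congrArg _ (rTensor_injective R M ((FlatLBC.extEquiv R (Polynomial R) M).injective h1))
  epi_g := by
    rw [ModuleCat.epi_iff_surjective]
    intro m
    refine ⟨FlatLBC.extEquiv R (Polynomial R) M (1 ⊗ₜ (m : M)), (pLin_apply R M _).trans ?_⟩
    refine (pLin₀_tmul R M 1 (m : M)).trans ?_
    rw [Polynomial.eval_one]
    exact one_smul R (m : M)

/-- The projection of complexes. -/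
noncomputable def pC (E : DRing.Cx R) : (ext (ι R)).obj E ⟶ (DRing.restrictCx (φ R)).obj E :=
  (NatTrans.mapHomologicalComplex (pNat R) (ComplexShape.up ℤ)).app E

lemma Xm_comp_pC (E : DRing.Cx R) : Xm R ((ext (ι R)).obj E) ≫ pC R E = 0 := by
  ext i : 1
  exact Xm_comp_p R (E.X i)

theorem shortExactC (E : DRing.Cx R) : (ShortComplex.mk _ _ (Xm_comp_pC R E)).ShortExact :=
  HomologicalComplex.shortExact_of_degreewise_shortExact _ fun i => shortExact R (E.X i)

/-- The triangle `E[X] → E[X] → E`. -/
theorem exists_triangle (E : DRing.Cx R) :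
    ∃ (g : DRing.toD ((ext (ι R)).obj E) ⟶ DRing.toD ((DRing.restrictCx (φ R)).obj E)) (h : _),
      Triangle.mk (Xm R (DRing.toD ((ext (ι R)).obj E))) g h ∈ distTriang (Dual.D (Polynomial R)) := by
  have h : Xm R (DRing.toD ((ext (ι R)).obj E)) = Q.map (Xm R ((ext (ι R)).obj E)) := by
    rw [Functor.map_smul, CategoryTheory.Functor.map_id]
  refine ⟨DerivedCategory.Q.map (pC R E), triangleOfSESδ (shortExactC R E), ?_⟩
  rw [h]
  exact triangleOfSES_distinguished (shortExactC R E)

lemma flat_ι : (ι R).Flat := by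
  rw [RingHom.flat_algebraMap_iff]
  infer_instance

/-- Derived base change along `X ↦ 0` of `K[X]` is `K`. -/
noncomputable def lbcExtIso (E : DRing.Cx R) [DRing.HasLBaseChange (φ R)] :
    (DRing.LBaseChange (φ R)).obj (DRing.toD ((ext (ι R)).obj E)) ≅ DRing.toD E :=
  haveI := LBC.hasLBaseChange (ι R)
  haveI := LBC.hasLBaseChange (RingHom.id R)
  (DRing.LBaseChange (φ R)).mapIso ((flatBCQ (ι R) (flat_ι R) E).symm ≪≫
    (FlatLBC.LBaseChangeIso (ι R) (flat_ι R)).symm.app (DRing.toD E)) ≪≫
    (LBC.lbcComp (ι R) (φ R) (RingHom.id R) (by ext; simp)).app (DRing.toD E) ≪≫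
    (LBC.lbcId (RingHom.id R) rfl).app (DRing.toD E)

open scoped LBC in
theorem main [DRing.HasLBaseChange (φ R)] (E : DRing.Cx R) :
    Nonempty ((DRing.LBaseChange (φ R)).obj (DRing.toD ((DRing.restrictCx (φ R)).obj E)) ≅
      DRing.toD E ⊞ (shiftFunctor (Dual.D R) (1 : ℤ)).obj (DRing.toD E)) := by
  obtain ⟨g, h, hT⟩ := exists_triangle R E
  have h1 := (DRing.LBaseChange (φ R)).map_distinguished _ hT
  have h0 : (DRing.LBaseChange (φ R)).map (Xm R (DRing.toD ((ext (ι R)).obj E))) = 0 := by
    rw [LBC.lbc_map_smul, Polynomial.coe_evalRingHom, Polynomial.eval_X, zero_smul]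
  have h2 := rot_of_distTriang _ h1
  obtain ⟨e, -, -⟩ := exists_iso_binaryBiproduct_of_distTriang _ h2 (by
    change -((shiftFunctor (Dual.D R) (1 : ℤ)).map
      ((DRing.LBaseChange (φ R)).map (Xm R (DRing.toD ((ext (ι R)).obj E))))) = 0
    rw [h0, Functor.map_zero, neg_zero])
  exact ⟨e ≪≫ biprod.mapIso (lbcExtIso R E)
    ((shiftFunctor (Dual.D R) (1 : ℤ)).mapIso (lbcExtIso R E))⟩

/-- Restriction of a complex. -/
noncomputable def restrictQ (E : DRing.Cx R) :
    (DRing.restrictD (φ R)).obj (DRing.toD E) ≅ DRing.toD ((DRing.restrictCx (φ R)).obj E) :=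
  (ModuleCat.restrictScalars.{u} (φ R)).mapDerivedCategoryFactors.app E

end K228.PolyCone
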