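import Groth.Agent.DRing.K227.LbcFlat
import Groth.Agent.DRing.K229.LiftMod
import Groth.Agent.DRing.K228.GlDim
import Groth.Agent.S6974

/-!
# Perfectness over a flat local map with regular fibre
-/

set_option autoImplicit false

universe u

open CategoryTheory CategoryTheory.Limits CategoryTheory.Pretriangulated
open scoped TensorProduct

attribute [local instance] HasDerivedCategory.standard

namespace K228.RegFibre

open DerivedCategory Groth.Agent.LoccohB Groth.Agent.PerfC.RingPerf K228.FibreSplit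
  K229.LiftMod

section Red

variable {R : Type u} [CommRing R] (J : Ideal R) (E : DRing.Cx R)

/-- the reduction map as a function. -/
noncomputable def tr (X : ModuleCat.{u} R) (x : X) : (red J).obj X := (toRed J X).hom x

lemma tr_eq_zero_iff (X : ModuleCat.{u} R) (x : X) :
    tr J X x = 0 ↔ x ∈ J • (⊤ : Submodule R X) := toRed_eq_zero_iff J X x

lemma tr_surjective (X : ModuleCat.{u} R) : Function.Surjective (tr J X) := toRed_surjective J X

lemma map_tr {X Y : ModuleCat.{u} R} (f : X ⟶ Y) (x : X) :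
    ((red J).map f).hom (tr J X x) = tr J Y (f.hom x) := rfl

lemma tr_sub (X : ModuleCat.{u} R) (x y : X) : tr J X (x - y) = tr J X x - tr J X y :=
  map_sub (toRed J X).hom x y

/-- Exactness of `E / J E`, elementwise. -/
theorem exactAt_red_iff (i : ℤ) :
    (((red J).mapHomologicalComplex (ComplexShape.up ℤ)).obj E).ExactAt i ↔
      ∀ x : E.X i, (E.d i (i + 1)).hom x ∈ J • (⊤ : Submodule R (E.X (i + 1))) →
        ∃ y : E.X (i - 1), x - (E.d (i - 1) i).hom y ∈ J • (⊤ : Submodule R (E.X i)) := by
  rw [KProj.exactAt_iff_elem]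
  constructor
  · intro h x hx
    obtain ⟨z, hz⟩ := h (tr J (E.X i) x) (by
      change ((red J).map (E.d i (i + 1))).hom (tr J (E.X i) x) = 0
      rw [map_tr, tr_eq_zero_iff]
      exact hx)
    obtain ⟨y, rfl⟩ := tr_surjective J (E.X (i - 1)) z
    refine ⟨y, ?_⟩
    have hz' : tr J (E.X i) ((E.d (i - 1) i).hom y) = tr J (E.X i) x := by
      rw [← map_tr]
      exact hz
    rw [← tr_eq_zero_iff, tr_sub, hz', sub_self]
  · intro h z hz
    obtain ⟨x, rfl⟩ := tr_surjective J (E.X i) z
    have hz' : ((red J).map (E.d i (i + 1))).hom (tr J (E.X i) x) = 0 := hz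
    rw [map_tr, tr_eq_zero_iff] at hz'
    obtain ⟨y, hy⟩ := h x hz'
    refine ⟨tr J (E.X (i - 1)) y, ?_⟩
    change ((red J).map (E.d (i - 1) i)).hom (tr J (E.X (i - 1)) y) = tr J (E.X i) x
    rw [map_tr, eq_comm, ← sub_eq_zero, ← tr_sub, tr_eq_zero_iff]
    exact hy

end Red

variable {A B : Type u} [CommRing A] [CommRing B] [Algebra A B]

/-- Reduction of the restriction of scalars. -/
theorem exactAt_red_restrict (J : Ideal A) (E : DRing.Cx B) (i : ℤ) :
    (((red J).mapHomologicalComplex (ComplexShape.up ℤ)).obj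
      ((DRing.restrictCx (algebraMap A B)).obj E)).ExactAt i ↔
    (((red (J.map (algebraMap A B))).mapHomologicalComplex (ComplexShape.up ℤ)).obj E).ExactAt i := by
  rw [exactAt_red_iff, exactAt_red_iff]
  have key : ∀ (j : ℤ) (x : E.X j),
      x ∈ J.map (algebraMap A B) • (⊤ : Submodule B (E.X j)) ↔
      (show (((DRing.restrictCx (algebraMap A B)).obj E).X j) from x) ∈
        J • (⊤ : Submodule A (((DRing.restrictCx (algebraMap A B)).obj E).X j)) := by
    intro j x
    let _ : Module A (E.X j) := Module.compHom (E.X j) (algebraMap A B)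
    have : IsScalarTower A B (E.X j) := IsScalarTower.of_algebraMap_smul fun r y => rfl
    have h := Ideal.smul_restrictScalars (R := A) (S := B) (M := E.X j) J ⊤
    have h' : x ∈ (J.map (algebraMap A B) • (⊤ : Submodule B (E.X j))).restrictScalars A ↔
      x ∈ J • (⊤ : Submodule B (E.X j)).restrictScalars A := by rw [h]
    exact h'
  constructor
  · intro h x hx
    obtain ⟨y, hy⟩ := h x ((key _ _).1 hx)
    exact ⟨y, (key _ _).2 hy⟩
  · intro h x hx
    obtain ⟨y, hy⟩ := h x ((key _ _).2 hx)
    exact ⟨y, (key _ _).1 hy⟩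

/-- Fibre amplitude over the source from fibre amplitude over the base. -/
theorem exactAt_fibre [IsLocalRing A] [IsLocalRing B] [Module.Flat A B]
    [DRing.HasLBaseChange (IsLocalRing.residue A)] (E : DRing.Cx B) (c : ℤ)
    (hc : DRing.VanishesAbove E c) (hE : DRing.TermwiseFiniteProjective E) (K : Dual.D B)
    (e : DRing.toD E ≅ K) (i : ℤ)
    (h : Subsingleton (Dual.HD (IsLocalRing.ResidueField A)
      ((DRing.LBaseChange (IsLocalRing.residue A)).obj ((DRing.restrictD (algebraMap A B)).obj K)) i)) :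
    (((red ((IsLocalRing.maximalIdeal A).map (algebraMap A B))).mapHomologicalComplex
      (ComplexShape.up ℤ)).obj E).ExactAt i := by
  rw [← exactAt_red_restrict]
  let E' : DRing.Cx A := (DRing.restrictCx (algebraMap A B)).obj E
  have hc' : DRing.VanishesAbove E' c := fun j hj =>
    Functor.map_isZero (ModuleCat.restrictScalars.{u} (algebraMap A B)) (hc j hj)
  have hE' : DRing.TermwiseFlat E' := fun j => by
    have := (hE j).2
    let _ : Module A (E.X j) := Module.compHom (E.X j) (algebraMap A B)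
    have : IsScalarTower A B (E.X j) := IsScalarTower.of_algebraMap_smul fun r y => rfl
    exact Module.Flat.trans A B (E.X j)
  obtain ⟨e'⟩ := K227.LbcFlat.nonempty_lbc_iso (IsLocalRing.residue A) E' c hc' hE'
  have h2 : (((ModuleCat.extendScalars.{u, u, u} (IsLocalRing.residue A)).mapHomologicalComplex
      (ComplexShape.up ℤ)).obj E').ExactAt i := by
    refine K228.TorPerf.exactAt_of_hd _ (e'.symm ≪≫ (DRing.LBaseChange (IsLocalRing.residue A)).mapIso
      ((Groth.Agent.Flat2C.TorAmpRestr.restrictIso (algebraMap A B) E).symm ≪≫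
        (DRing.restrictD (algebraMap A B)).mapIso e)) i h
  exact h2

/-- Perfectness from the fibre over the base, when the fibre ring is regular. -/
theorem main [IsLocalRing A] [IsLocalRing B] [IsLocalHom (algebraMap A B)] [Module.Flat A B] (d : ℕ)
    [IsRegularLocalRing (B ⧸ (IsLocalRing.maximalIdeal A).map (algebraMap A B))]
    (hd : ringKrullDim (B ⧸ (IsLocalRing.maximalIdeal A).map (algebraMap A B)) = d)
    [DRing.HasLBaseChange (IsLocalRing.residue A)] (a b : ℤ) (K : Dual.D B)
    (hK : DRing.IsPseudoCoherent' B K)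
    (h : ∀ i : ℤ, (i < a ∨ b < i) → Subsingleton (Dual.HD (IsLocalRing.ResidueField A)
      ((DRing.LBaseChange (IsLocalRing.residue A)).obj ((DRing.restrictD (algebraMap A B)).obj K)) i)) :
    DRing.IsPerfect B K ∧ DRing.HasTorAmplitudeIn B (a - d) b K := by
  have hlbc : ∀ m : Ideal B, DRing.HasLBaseChange (Ideal.Quotient.mk m) := fun m =>
    LBC.hasLBaseChange _
  refine Groth.Agent.S6974.result B K hK (a - d) b fun m hm i hi => ?_
  obtain rfl : m = IsLocalRing.maximalIdeal B := IsLocalRing.eq_maximalIdeal hm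
  let J : Ideal B := (IsLocalRing.maximalIdeal A).map (algebraMap A B)
  have hJ : J ≤ IsLocalRing.maximalIdeal B := by
    have h1 : IsLocalHom (algebraMap A B) := inferInstance
    exact ((IsLocalRing.local_hom_TFAE (algebraMap A B)).out 0 2).1 h1
  obtain ⟨E, c, hc, hE, ⟨e⟩⟩ := hK
  have hE' := termwiseFiniteProjective_of_free E hE
  have hKP : E.IsKProjective := isKProjective hc fun i => (hE' i).2
  let Ebar : DRing.Cx (B ⧸ J) := ((red J).mapHomologicalComplex (ComplexShape.up ℤ)).obj E
  have hex : ∀ j : ℤ, (j < a ∨ b < j) → Ebar.ExactAt j := fun j hj =>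
    exactAt_fibre E c hc hE' K e j (h j hj)
  have hgl : ∀ (M : Type u) [AddCommGroup M] [Module (B ⧸ J) M],
      HasProjectiveDimensionLT (ModuleCat.of (B ⧸ J) M) (d + 1) := fun M _ _ =>
    Groth.Agent.S0563.result (B ⧸ J) d hd M
  obtain ⟨G, hG1, hG2, ⟨eG⟩⟩ := K228.GlDim.exists_projective_rep d hgl (DRing.toD Ebar) a b
    (fun j hj => K228.TorPerf.hd_of_exactAt Ebar (Iso.refl _) j (hex j (Or.inr hj)))
    (fun j hj => K228.TorPerf.hd_of_exactAt Ebar (Iso.refl _) j (hex j (Or.inl hj)))
  have hGK : G.IsKProjective := isKProjective (b := b) (fun j hj => hG1 j (Or.inr hj)) hG2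
  have hm1 : DRing.HasLBaseChange (Ideal.Quotient.mk J) := LBC.hasLBaseChange _
  have hm2 : DRing.HasLBaseChange (Ideal.Quotient.factor hJ) := LBC.hasLBaseChange _
  let e1 : DRing.toD G ≅ (DRing.LBaseChange (Ideal.Quotient.mk J)).obj K :=
    eG ≪≫ (LBC.lbcQIso (Ideal.Quotient.mk J) E).symm ≪≫ (DRing.LBaseChange _).mapIso e
  let e2 : DRing.toD (((ModuleCat.extendScalars.{u, u, u} (Ideal.Quotient.factor hJ)).mapHomologicalComplex
      (ComplexShape.up ℤ)).obj G) ≅
      (DRing.LBaseChange (Ideal.Quotient.mk (IsLocalRing.maximalIdeal B))).obj K :=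
    (LBC.lbcQIso (Ideal.Quotient.factor hJ) G).symm ≪≫
      (DRing.LBaseChange (Ideal.Quotient.factor hJ)).mapIso e1 ≪≫
      (LBC.lbcComp (Ideal.Quotient.mk J) (Ideal.Quotient.factor hJ)
        (Ideal.Quotient.mk (IsLocalRing.maximalIdeal B))
        (Ideal.Quotient.factor_comp_mk hJ).symm).app K
  exact K228.TorPerf.isZero_hd_of_vanishes _ e2 i
    (Functor.map_isZero (ModuleCat.extendScalars.{u, u, u} (Ideal.Quotient.factor hJ)) (hG1 i hi))

end K228.RegFibre
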