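import Groth.Agent.DRing.K228.Basic
import Mathlib.Algebra.Homology.SingleHomology
import Mathlib.Algebra.Module.FinitePresentation

/-!
# The map `E ⟶ coker(E^{i-1} → E^i)[-i]`, injective on `H^i`
-/

set_option autoImplicit false

universe u

open CategoryTheory CategoryTheory.Limits CategoryTheory.Pretriangulated HomologicalComplex

attribute [local instance] HasDerivedCategory.standard

namespace K228.ToSingle

open DerivedCategory

section

variable {C : Type*} [Category* C] [Abelian C] (E : CochainComplex C ℤ) (i : ℤ)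

/-- The map from `E` to its `i`-th opcycles placed in degree `i`. -/
noncomputable def toOp : E ⟶ (single C (ComplexShape.up ℤ) i).obj (E.opcycles i) :=
  mkHomToSingle (E.pOpcycles i) (fun j _ => E.d_pOpcycles j i)

lemma opcyclesMap_toOp :
    opcyclesMap (toOp E i) i ≫ (singleObjOpcyclesSelfIso (ComplexShape.up ℤ) i _).inv = 𝟙 _ := by
  rw [← cancel_epi (E.pOpcycles i), p_opcyclesMap_assoc, Category.comp_id]
  simp [toOp, singleObjOpcyclesSelfIso]

instance : Mono (homologyMap (toOp E i) i) := by
  have h1 : IsIso (opcyclesMap (toOp E i) i) := by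
    have h := opcyclesMap_toOp E i
    have : opcyclesMap (toOp E i) i = (singleObjOpcyclesSelfIso (ComplexShape.up ℤ) i _).hom := by
      rw [← cancel_mono (singleObjOpcyclesSelfIso (ComplexShape.up ℤ) i _).inv, h, Iso.hom_inv_id]
    rw [this]
    infer_instance
  have h2 : homologyMap (toOp E i) i ≫
      (((single C (ComplexShape.up ℤ) i).obj (E.opcycles i)).homologyι i) =
      E.homologyι i ≫ opcyclesMap (toOp E i) i := homologyι_naturality (toOp E i) i
  have h3 : Mono (homologyMap (toOp E i) i ≫
      (((single C (ComplexShape.up ℤ) i).obj (E.opcycles i)).homologyι i)) := by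
    rw [h2]; infer_instance
  exact mono_of_mono _ (((single C (ComplexShape.up ℤ) i).obj (E.opcycles i)).homologyι i)

end

lemma mono_map_iff {C D : Type*} [Category* C] [Category* D] {F G : C ⥤ D} (e : F ≅ G) {X Y : C}
    (f : X ⟶ Y) : Mono (F.map f) ↔ Mono (G.map f) :=
  MorphismProperty.arrow_mk_iso_iff (MorphismProperty.monomorphisms D)
    (Arrow.isoMk (e.app X) (e.app Y) (e.hom.naturality f).symm)

variable {A : Type u} [CommRing A]

/-- Q(single i M) ≅ (M[0])[-i]. -/
noncomputable def singleShiftIso (M : ModuleCat.{u} A) (i : ℤ) :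
    Q.obj ((single (ModuleCat.{u} A) (ComplexShape.up ℤ) i).obj M) ≅
      ((singleFunctor (ModuleCat.{u} A) 0).obj M)⟦-i⟧ :=
  ((singleFunctorIsoCompQ (ModuleCat.{u} A) i).app M).symm ≪≫
    (((singleFunctors (ModuleCat.{u} A)).shiftIso (-i) i 0 (by omega)).app M).symm

/-- A morphism `K → M[-i]` injective on `H^i`, `M` the cokernel of `E^{i-1} → E^i`. -/
theorem exists_mono_hom (K : Dual.D A) (E : DRing.Cx A) (e : DRing.toD E ≅ K) (i : ℤ) :
    ∃ f : K ⟶ (shiftFunctor (Dual.D A) (-i)).obj (Dual.inD A (E.opcycles i)),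
      Mono ((DerivedCategory.homologyFunctor (ModuleCat.{u} A) i).map f) := by
  refine ⟨e.inv ≫ Q.map (toOp E i) ≫ (singleShiftIso (E.opcycles i) i).hom, ?_⟩
  rw [Functor.map_comp, Functor.map_comp]
  have h1 : Mono ((DerivedCategory.homologyFunctor (ModuleCat.{u} A) i).map
      (Q.map (toOp E i))) := by
    refine (mono_map_iff (homologyFunctorFactors (ModuleCat.{u} A) i) (toOp E i)).2 ?_
    change Mono (homologyMap (toOp E i) i)
    infer_instance
  have h4 : Mono ((DerivedCategory.homologyFunctor (ModuleCat.{u} A) i).map (Q.map (toOp E i)) ≫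
      (DerivedCategory.homologyFunctor (ModuleCat.{u} A) i).map
        (singleShiftIso (E.opcycles i) i).hom) := @mono_comp _ _ _ _ _ _ h1 _ inferInstance
  exact @mono_comp _ _ _ _ _ _ inferInstance _ h4

lemma finitePresentation_opcycles (E : DRing.Cx A) (hE : DRing.TermwiseFiniteFree E) (i : ℤ) :
    Module.FinitePresentation A (E.opcycles i) := by
  have h1 := (hE i).1
  have h2 := (hE i).2
  have h3 := (hE (i - 1)).1
  have : Module.FinitePresentation A (E.X i) := Module.finitePresentation_of_projective A (E.X i)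
  refine Module.finitePresentation_of_surjective (E.pOpcycles i).hom
    ((ModuleCat.epi_iff_surjective _).1 inferInstance) ?_
  have hex := ShortComplex.exact_of_g_is_cokernel
    (ShortComplex.mk (E.d (i - 1) i) (E.pOpcycles i) (E.d_pOpcycles _ _))
    (E.opcyclesIsCokernel (i - 1) i (by simp))
  have : LinearMap.ker (E.pOpcycles i).hom = LinearMap.range (E.d (i - 1) i).hom :=
    ((ShortComplex.moduleCat_exact_iff_range_eq_ker _).1 hex).symm
  rw [this]
  exact Submodule.fg_range _

end K228.ToSingle
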