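import Groth.Agent.DRing.K227.TorCrit
import Groth.Agent.Sga4h.KProjFun
import Groth.Agent.LoccohB.LBC2
import Groth.Agent.LoccohB.FlatLBC

/-!
# Tor amplitude and quotients by ideals

For a K-projective complex `P` with projective terms and an `A`-module `N` (`R → A`), `P ⊗_R N` is
`(P ⊗_R A) ⊗_A N`, and the class of modules `M` with `H^i(P ⊗ M) = 0` is closed under extensions.
-/

set_option autoImplicit false

universe u

open CategoryTheory CategoryTheory.Limits CategoryTheory.Pretriangulated TensorProduct
open MonoidalCategory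

attribute [local instance] HasDerivedCategory.standard

namespace K228.TorQuot

open DerivedCategory Groth.Agent.LoccohB K227.TorCrit

section Alg

variable {R A : Type u} [CommRing R] [CommRing A] [Algebra R A]
variable {X Y Z : Type u} [AddCommGroup X] [AddCommGroup Y] [AddCommGroup Z] [Module R X]
  [Module R Y] [Module R Z]
variable (N : Type u) [AddCommGroup N] [Module A N] [Module R N] [IsScalarTower R A N]

/-- `(A ⊗ X) ⊗_A N = X ⊗ N`. -/
noncomputable def canc (X : Type u) [AddCommGroup X] [Module R X] :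
    (A ⊗[R] X) ⊗[A] N ≃+ X ⊗[R] N :=
  ((TensorProduct.comm A (A ⊗[R] X) N).trans
    (AlgebraTensorModule.cancelBaseChange R A A N X)).toAddEquiv.trans
      (TensorProduct.comm R N X).toAddEquiv

lemma canc_tmul (a : A) (x : X) (n : N) : canc (R := R) N X ((a ⊗ₜ[R] x) ⊗ₜ[A] n) = x ⊗ₜ (a • n) :=
  rfl

lemma canc_naturality (f : X →ₗ[R] Y) (t : (A ⊗[R] X) ⊗[A] N) :
    canc (R := R) N Y ((f.baseChange A).rTensor N t) = f.rTensor N (canc (R := R) N X t) := by
  induction t using TensorProduct.induction_on with
  | zero => simp only [map_zero]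
  | add x y hx hy => simp only [map_add, hx, hy]
  | tmul s n =>
    induction s using TensorProduct.induction_on with
    | zero => simp only [zero_tmul, map_zero]
    | add x y hx hy => simp only [add_tmul, map_add, hx, hy]
    | tmul a x =>
      rw [LinearMap.rTensor_tmul, LinearMap.baseChange_tmul, canc_tmul, canc_tmul,
        LinearMap.rTensor_tmul]

theorem exact_iff (f : X →ₗ[R] Y) (g : Y →ₗ[R] Z) :
    Function.Exact ((f.baseChange A).rTensor N) ((g.baseChange A).rTensor N) ↔
      Function.Exact (f.rTensor N) (g.rTensor N) := by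
  refine (Function.Exact.iff_of_ladder_addEquiv (canc (R := R) (A := A) N X)
    (canc (R := R) (A := A) N Y) (canc (R := R) (A := A) N Z)
    (f₁₂ := (f.baseChange A).rTensor N) (f₂₃ := (g.baseChange A).rTensor N)
    (g₁₂ := f.rTensor N) (g₂₃ := g.rTensor N) ?_ ?_).symm
  · ext t
    exact (canc_naturality N f t).symm
  · ext t
    exact (canc_naturality N g t).symm

end Alg

section Complex

variable {R A : Type u} [CommRing R] [CommRing A] [Algebra R A]

lemma extEquiv_naturality {X Y : ModuleCat.{u} R} (f : X ⟶ Y) :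
    ((ModuleCat.extendScalars.{u, u, u} (algebraMap R A)).map f).hom ∘ₗ
      (FlatLBC.extEquiv R A X).toLinearMap =
    (FlatLBC.extEquiv R A Y).toLinearMap ∘ₗ f.hom.baseChange A := by
  refine LinearMap.ext fun t => ?_
  induction t using TensorProduct.induction_on with
  | zero => simp only [map_zero]
  | add x y hx hy => simp only [map_add, hx, hy]
  | tmul a x => rfl

/-- The base change of a complex. -/
noncomputable abbrev extA (P : DRing.Cx R) : DRing.Cx A :=
  ((ModuleCat.extendScalars.{u, u, u} (algebraMap R A)).mapHomologicalComplex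
    (ComplexShape.up ℤ)).obj P

theorem exactAt_extA_iff (P : DRing.Cx R) (N : ModuleCat.{u} A) (j : ℤ) :
    (DRing.tensorCx (extA (A := A) P) N).ExactAt j ↔
      Function.Exact (((P.d (j - 1) j).hom.baseChange A).rTensor N)
        (((P.d j (j + 1)).hom.baseChange A).rTensor N) := by
  rw [exactAt_tensorCx_iff _ N (show j - 1 + 1 = j by omega) rfl]
  refine Function.Exact.iff_of_ladder_linearEquiv
    (e₁ := LinearEquiv.rTensor N (FlatLBC.extEquiv R A (P.X (j - 1))))
    (e₂ := LinearEquiv.rTensor N (FlatLBC.extEquiv R A (P.X j)))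
    (e₃ := LinearEquiv.rTensor N (FlatLBC.extEquiv R A (P.X (j + 1)))) ?_ ?_
  · change LinearMap.rTensor N _ ∘ₗ LinearMap.rTensor N _ =
      LinearMap.rTensor N _ ∘ₗ LinearMap.rTensor N _
    rw [← LinearMap.rTensor_comp, ← LinearMap.rTensor_comp]
    exact congrArg _ (extEquiv_naturality (P.d (j - 1) j))
  · change LinearMap.rTensor N _ ∘ₗ LinearMap.rTensor N _ =
      LinearMap.rTensor N _ ∘ₗ LinearMap.rTensor N _
    rw [← LinearMap.rTensor_comp, ← LinearMap.rTensor_comp]
    exact congrArg _ (extEquiv_naturality (P.d j (j + 1)))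

/-- `P ⊗_R N` and `(P ⊗_R A) ⊗_A N` are exact in the same degrees. -/
theorem exactAt_restrict_iff (P : DRing.Cx R) (N : ModuleCat.{u} A) (j : ℤ) :
    (DRing.tensorCx P ((ModuleCat.restrictScalars.{u} (algebraMap R A)).obj N)).ExactAt j ↔
      (DRing.tensorCx (extA (A := A) P) N).ExactAt j := by
  rw [exactAt_extA_iff, exactAt_tensorCx_iff _ _ (show j - 1 + 1 = j by omega) rfl]
  let _ : Module R N := Module.compHom N (algebraMap R A)
  have : IsScalarTower R A N := ⟨fun x y z => by
    rw [Algebra.smul_def, mul_smul]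
    rfl⟩
  exact (exact_iff (A := A) (N := N) (P.d (j - 1) j).hom (P.d j (j + 1)).hom).symm

end Complex

section SES

variable {R : Type u} [CommRing R] (P : DRing.Cx R)

/-- Functoriality of `P ⊗ M` in `M`. -/
noncomputable def tmap {M N : ModuleCat.{u} R} (f : M ⟶ N) :
    DRing.tensorCx P M ⟶ DRing.tensorCx P N :=
  (NatTrans.mapHomologicalComplex ((tensoringRight (ModuleCat.{u} R)).map f)
    (ComplexShape.up ℤ)).app P

lemma tmap_f {M N : ModuleCat.{u} R} (f : M ⟶ N) (i : ℤ) : (tmap P f).f i = P.X i ◁ f := rfl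

lemma whiskerLeft_hom (X : ModuleCat.{u} R) {M N : ModuleCat.{u} R} (f : M ⟶ N) :
    (X ◁ f).hom = f.hom.lTensor X := rfl

variable (hP : DRing.TermwiseFlat P)

lemma tmap_comp_zero (S : ShortComplex (ModuleCat.{u} R)) : tmap P S.f ≫ tmap P S.g = 0 := by
  ext i : 1
  refine (MonoidalCategory.whiskerLeft_comp (P.X i) S.f S.g).symm.trans ?_
  rw [S.zero]
  exact MonoidalPreadditive.whiskerLeft_zero

include hP in
theorem shortExact_tmap (S : ShortComplex (ModuleCat.{u} R)) (hS : S.ShortExact) :
    (ShortComplex.mk (tmap P S.f) (tmap P S.g) (tmap_comp_zero P S)).ShortExact := by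
  refine HomologicalComplex.shortExact_of_degreewise_shortExact _ fun i => ?_
  have := hP i
  have h := hS.exact
  rw [ShortComplex.ShortExact.moduleCat_exact_iff_function_exact] at h
  refine @ShortComplex.ShortExact.mk _ _ _ _ ?_ ?_ ?_
  · rw [ShortComplex.ShortExact.moduleCat_exact_iff_function_exact]
    exact Module.Flat.lTensor_exact (P.X i) h
  · exact (ModuleCat.mono_iff_injective _).2
      (Module.Flat.lTensor_preserves_injective_linearMap _ hS.moduleCat_injective_f)
  · exact (ModuleCat.epi_iff_surjective _).2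
      (LinearMap.lTensor_surjective _ hS.moduleCat_surjective_g)

include hP in
/-- The class of modules with `P ⊗ M` exact in degree `i` is closed under extensions. -/
theorem exactAt_of_shortExact (S : ShortComplex (ModuleCat.{u} R)) (hS : S.ShortExact) (i : ℤ)
    (h1 : (DRing.tensorCx P S.X₁).ExactAt i) (h3 : (DRing.tensorCx P S.X₃).ExactAt i) :
    (DRing.tensorCx P S.X₂).ExactAt i := by
  rw [HomologicalComplex.exactAt_iff_isZero_homology] at h1 h3 ⊢
  exact ((shortExact_tmap P hP S hS).homology_exact₂ i).isZero_of_both_zeros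
    (h1.eq_of_src _ _) (h3.eq_of_tgt _ _)

lemma exactAt_of_iso_module {M N : ModuleCat.{u} R} (e : M ≅ N) (i : ℤ)
    (h : (DRing.tensorCx P M).ExactAt i) : (DRing.tensorCx P N).ExactAt i := by
  refine HomologicalComplex.ExactAt.of_iso h (i := i)
    { hom := tmap P e.hom
      inv := tmap P e.inv
      hom_inv_id := ?_
      inv_hom_id := ?_ }
  · ext j : 1
    refine (MonoidalCategory.whiskerLeft_comp (P.X j) e.hom e.inv).symm.trans ?_
    rw [e.hom_inv_id]
    exact MonoidalCategory.whiskerLeft_id _ _
  · ext j : 1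
    refine (MonoidalCategory.whiskerLeft_comp (P.X j) e.inv e.hom).symm.trans ?_
    rw [e.inv_hom_id]
    exact MonoidalCategory.whiskerLeft_id _ _

/-- The short exact sequence `0 → I M → M → M / I M → 0`. -/
noncomputable def sesI (I : Ideal R) (M : ModuleCat.{u} R) : ShortComplex (ModuleCat.{u} R) :=
  ShortComplex.mk (ModuleCat.ofHom (I • (⊤ : Submodule R M)).subtype)
    (ModuleCat.ofHom (I • (⊤ : Submodule R M)).mkQ) (by
      ext x
      exact (Submodule.Quotient.mk_eq_zero _).2 x.2)

lemma sesI_shortExact (I : Ideal R) (M : ModuleCat.{u} R) : (sesI I M).ShortExact where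
  exact := by
    rw [ShortComplex.ShortExact.moduleCat_exact_iff_function_exact]
    rw [LinearMap.exact_iff]
    change LinearMap.ker (I • (⊤ : Submodule R M)).mkQ =
      LinearMap.range (I • (⊤ : Submodule R M)).subtype
    rw [Submodule.ker_mkQ, Submodule.range_subtype]
  mono_f := (ModuleCat.mono_iff_injective _).2 (Submodule.subtype_injective _)
  epi_g := (ModuleCat.epi_iff_surjective _).2 (Submodule.mkQ_surjective _)

/-- `M` is killed by `I`. -/
def Killed (I : Ideal R) (M : ModuleCat.{u} R) : Prop := ∀ a ∈ I, ∀ m : M, a • m = 0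

lemma killed_sesI_X₃ (I : Ideal R) (M : ModuleCat.{u} R) : Killed I (sesI I M).X₃ := by
  intro a ha m
  obtain ⟨m, rfl⟩ := Submodule.mkQ_surjective (I • (⊤ : Submodule R M)) m
  refine (map_smul (I • (⊤ : Submodule R M)).mkQ a m).symm.trans ?_
  exact (Submodule.Quotient.mk_eq_zero _).2 (Submodule.smul_mem_smul ha trivial)

lemma killed_sesI_X₁ (I J : Ideal R) (M : ModuleCat.{u} R) (h : Killed (I * J) M) :
    Killed J (sesI I M).X₁ := by
  rintro a ha ⟨m, hm⟩
  refine Subtype.ext ?_
  change a • m = 0
  induction hm using Submodule.smul_induction_on' with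
  | smul r hr n _ =>
    rw [smul_smul, mul_comm]
    exact h _ (Ideal.mul_mem_mul hr ha) n
  | add x hx y hy h1 h2 => rw [smul_add, h1, h2, add_zero]

include hP in
/-- From modules killed by `I` and by `J` to modules killed by `I * J`. -/
theorem exactAt_of_killed_mul (I J : Ideal R) (i : ℤ)
    (hI : ∀ M : ModuleCat.{u} R, Killed I M → (DRing.tensorCx P M).ExactAt i)
    (hJ : ∀ M : ModuleCat.{u} R, Killed J M → (DRing.tensorCx P M).ExactAt i)
    (M : ModuleCat.{u} R) (hM : Killed (I * J) M) : (DRing.tensorCx P M).ExactAt i :=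
  exactAt_of_shortExact P hP (sesI I M) (sesI_shortExact I M) i
    (hJ _ (killed_sesI_X₁ I J M hM)) (hI _ (killed_sesI_X₃ I M))

include hP in
theorem exactAt_of_killed_pow (I : Ideal R) (i : ℤ)
    (hI : ∀ M : ModuleCat.{u} R, Killed I M → (DRing.tensorCx P M).ExactAt i) (n : ℕ) :
    ∀ (M : ModuleCat.{u} R), Killed (I ^ n) M → (DRing.tensorCx P M).ExactAt i := by
  induction n with
  | zero =>
    intro M hM
    refine hI M fun a _ m => ?_
    have h1 : m = 0 := by
      have := hM 1 (by rw [pow_zero, Ideal.one_eq_top]; trivial) m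
      rwa [one_smul] at this
    rw [h1, smul_zero]
  | succ n ih =>
    intro M hM
    rw [pow_succ] at hM
    exact exactAt_of_killed_mul P hP (I ^ n) I i ih hI M hM

end SES

end K228.TorQuot
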