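import Groth.Agent.DRing.K228.TorQuot
import Groth.Agent.DRing.K228.PcQuot
import Groth.Agent.DRing.K228.Basic

/-!
# Tor amplitude and boundedness via quotients by ideals
-/

set_option autoImplicit false

universe u

open CategoryTheory CategoryTheory.Limits CategoryTheory.Pretriangulated TensorProduct

attribute [local instance] HasDerivedCategory.standard

namespace K228.TorQuot

open DerivedCategory Groth.Agent.LoccohB K227.TorCrit

section Surj

variable {R A : Type u} [CommRing R] [CommRing A] [Algebra R A]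

/-- Modules killed by the kernel of a surjection are restrictions of scalars. -/
lemma exists_restrict (hs : Function.Surjective (algebraMap R A)) (M : ModuleCat.{u} R)
    (hM : Killed (RingHom.ker (algebraMap R A)) M) :
    ∃ N : ModuleCat.{u} A,
      Nonempty ((ModuleCat.restrictScalars.{u} (algebraMap R A)).obj N ≅ M) := by
  have ht : Module.IsTorsionBySet R M (RingHom.ker (algebraMap R A)) := fun m a => hM a.1 a.2 m
  let _ : Module (R ⧸ RingHom.ker (algebraMap R A)) M := ht.module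
  let e := RingHom.quotientKerEquivOfSurjective hs
  let _ : Module A M := Module.compHom M (e.symm : A →+* R ⧸ RingHom.ker (algebraMap R A))
  refine ⟨ModuleCat.of A M, ?_⟩
  have key : ∀ (X : ModuleCat.{u} R) (f : X ≃+ M) (_ : ∀ (r : R) (x : X), f (r • x) = r • f x),
      Nonempty (X ≅ M) := fun X f hf => ⟨(f.toLinearEquiv hf).toModuleIso⟩
  have h2 : ∀ (r : R) (m : M), (e.symm (algebraMap R A r) • m : M) = r • m := by
    intro r m
    have h1 : e.symm (algebraMap R A r) = Ideal.Quotient.mk _ r := by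
      rw [RingEquiv.symm_apply_eq]
      exact (RingHom.quotientKerEquivOfSurjective_apply_mk hs r).symm
    rw [h1]
    exact Module.IsTorsionBySet.mk_smul ht r m
  exact key _ (AddEquiv.refl M) fun r m => h2 r m

instance isKProjective_extA (P : DRing.Cx R) [P.IsKProjective] : (extA (A := A) P).IsKProjective :=
  Groth.Agent.Sga4h.KProjFun.isKProjective_map
    (ModuleCat.extendRestrictScalarsAdj.{u, u, u} (algebraMap R A)) P

/-- Transfer to modules killed by the kernel. -/
lemma exactAt_of_killed (P : DRing.Cx R) (hs : Function.Surjective (algebraMap R A)) {i : ℤ}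
    (h : ∀ N : ModuleCat.{u} A, (DRing.tensorCx (extA (A := A) P) N).ExactAt i)
    (M : ModuleCat.{u} R) (hM : Killed (RingHom.ker (algebraMap R A)) M) :
    (DRing.tensorCx P M).ExactAt i := by
  obtain ⟨N, ⟨f⟩⟩ := exists_restrict hs M hM
  exact exactAt_of_iso_module P f i ((exactAt_restrict_iff P N i).2 (h N))

variable [DRing.HasLBaseChange (algebraMap R A)] {K : Dual.D R} (P : DRing.Cx R) [P.IsKProjective]
  (e : DRing.toD P ≅ K)

include e in
lemma nonempty_iso_extA :
    Nonempty (DRing.toD (extA (A := A) P) ≅ (DRing.LBaseChange (algebraMap R A)).obj K) :=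
  ⟨(LBC.lbcQIso (algebraMap R A) P).symm ≪≫ (DRing.LBaseChange (algebraMap R A)).mapIso e⟩

include e in
lemma exactAt_of_torAmp {a b : ℤ}
    (h : DRing.HasTorAmplitudeIn A a b ((DRing.LBaseChange (algebraMap R A)).obj K)) {i : ℤ}
    (hi : i < a ∨ b < i) (N : ModuleCat.{u} A) :
    (DRing.tensorCx (extA (A := A) P) N).ExactAt i := by
  have := fun M : ModuleCat.{u} A => LBC.hasLTensor M
  obtain ⟨e1⟩ := nonempty_iso_extA (A := A) P e
  obtain ⟨e2⟩ := nonempty_lten_kproj N (extA (A := A) P)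
  rw [exactAt_iff_subsingleton_HD]
  exact subsingleton_HD_of_iso ((DRing.LTensor A N).mapIso e1.symm ≪≫ e2) i
    ((torAmp_iff_lten _ a b).1 h N i hi)

include e in
lemma exactAt_of_isLE {b : ℤ} (h : ((DRing.LBaseChange (algebraMap R A)).obj K).IsLE b) {i : ℤ}
    (hi : b < i) (N : ModuleCat.{u} A) :
    (DRing.tensorCx (extA (A := A) P) N).ExactAt i := by
  have := LBC.hasLTensor N
  obtain ⟨e1⟩ := nonempty_iso_extA (A := A) P e
  obtain ⟨e2⟩ := nonempty_lten_kproj N (extA (A := A) P)
  obtain ⟨F, hF, hF', ⟨e3⟩⟩ := K227.PerfFlat.exists_projective_rep _ b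
    (fun i hi => ModuleCat.subsingleton_of_isZero
      (((DRing.LBaseChange (algebraMap R A)).obj K).isZero_of_isLE b i hi))
  obtain ⟨e4⟩ := K227.LbcFlat.nonempty_lten_iso N F b hF
    (fun i => Groth.Agent.Flat2C.TorAmpRestr.flat_of_projective (hF' i))
  rw [exactAt_iff_subsingleton_HD]
  refine subsingleton_HD_of_iso (e4.symm ≪≫ (DRing.LTensor A N).mapIso (e3 ≪≫ e1.symm) ≪≫ e2) i ?_
  rw [← exactAt_iff_subsingleton_HD]
  exact HomologicalComplex.ExactAt.of_isZero ((MonoidalCategory.tensorRight N).map_isZero (hF i hi))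

end Surj

section Main

variable {R : Type u} [CommRing R] {K : Dual.D R}

lemma exists_kproj (K : Dual.D R) : ∃ P : DRing.Cx R, P.IsKProjective ∧ DRing.TermwiseFlat P ∧
    Nonempty (DRing.toD P ≅ K) := by
  obtain ⟨P, p, h1, h2, h3, -⟩ := Groth.Agent.LoccohB.KProj.exists_kprojective
    (DerivedCategory.Q.objPreimage K)
  exact ⟨P, h1, fun i => Groth.Agent.Flat2C.TorAmpRestr.flat_of_projective (h3 i),
    ⟨asIso (Q.map p) ≪≫ DerivedCategory.Q.objObjPreimageIso K⟩⟩

lemma torAmp_of_exactAt (P : DRing.Cx R) [P.IsKProjective] (e : DRing.toD P ≅ K) (a b : ℤ)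
    (h : ∀ (M : ModuleCat.{u} R) (i : ℤ), (i < a ∨ b < i) → (DRing.tensorCx P M).ExactAt i) :
    DRing.HasTorAmplitudeIn R a b K := by
  have := fun M : ModuleCat.{u} R => LBC.hasLTensor M
  rw [torAmp_iff_lten]
  intro M i hi
  obtain ⟨e1⟩ := nonempty_lten_kproj M P
  exact subsingleton_HD_of_iso (e1.symm ≪≫ (DRing.LTensor R M).mapIso e) i
    ((exactAt_iff_subsingleton_HD _ i).1 (h M i hi))

lemma isLE_of_exactAt (P : DRing.Cx R) (e : DRing.toD P ≅ K) (b : ℤ)
    (h : ∀ (M : ModuleCat.{u} R) (i : ℤ), b < i → (DRing.tensorCx P M).ExactAt i) :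
    K.IsLE b := by
  refine K228.Basic.isLE_of_subsingleton K b fun i hi => ?_
  exact subsingleton_HD_of_iso e i ((exactAt_iff_subsingleton_HD P i).1
    (exactAt_of_tensorCx_self P i (h _ i hi)))

lemma ker_mk (I : Ideal R) : RingHom.ker (algebraMap R (R ⧸ I)) = I := Ideal.mk_ker

variable (I J : Ideal R) [DRing.HasLBaseChange (Ideal.Quotient.mk I)]
  [DRing.HasLBaseChange (Ideal.Quotient.mk J)]

/-- Tor amplitude when `I J = 0`. -/
theorem torAmp_of_mul (hIJ : I * J = ⊥) {a b : ℤ}
    (hI : DRing.HasTorAmplitudeIn (R ⧸ I) a b ((DRing.LBaseChange (Ideal.Quotient.mk I)).obj K))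
    (hJ : DRing.HasTorAmplitudeIn (R ⧸ J) a b ((DRing.LBaseChange (Ideal.Quotient.mk J)).obj K)) :
    DRing.HasTorAmplitudeIn R a b K := by
  obtain ⟨P, hP, hPf, ⟨e⟩⟩ := exists_kproj K
  have h1 : DRing.HasLBaseChange (algebraMap R (R ⧸ I)) :=
    inferInstanceAs (DRing.HasLBaseChange (Ideal.Quotient.mk I))
  have h2 : DRing.HasLBaseChange (algebraMap R (R ⧸ J)) :=
    inferInstanceAs (DRing.HasLBaseChange (Ideal.Quotient.mk J))
  refine torAmp_of_exactAt P e a b fun M i hi => ?_
  refine exactAt_of_killed_mul P hPf I J i (fun M hM => ?_) (fun M hM => ?_) M (fun x hx m => ?_)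
  · exact exactAt_of_killed (A := R ⧸ I) P Ideal.Quotient.mk_surjective
      (exactAt_of_torAmp (A := R ⧸ I) P e hI hi) M (by rwa [ker_mk])
  · exact exactAt_of_killed (A := R ⧸ J) P Ideal.Quotient.mk_surjective
      (exactAt_of_torAmp (A := R ⧸ J) P e hJ hi) M (by rwa [ker_mk])
  · rw [hIJ, Ideal.mem_bot] at hx
    rw [hx, zero_smul]

end Main

section Nil

variable {R A : Type u} [CommRing R] [CommRing A] (φ : R →+* A) (hφ : Function.Surjective φ)
  (hnil : IsNilpotent (RingHom.ker φ)) [DRing.HasLBaseChange φ] {K : Dual.D R}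

include hφ hnil in
/-- Tor amplitude and nilpotent ideals. -/
theorem torAmp_of_nilpotent {a b : ℤ}
    (h : DRing.HasTorAmplitudeIn A a b ((DRing.LBaseChange φ).obj K)) :
    DRing.HasTorAmplitudeIn R a b K := by
  let _ := φ.toAlgebra
  obtain ⟨n, hn⟩ := hnil
  obtain ⟨P, hP, hPf, ⟨e⟩⟩ := exists_kproj K
  have h1 : DRing.HasLBaseChange (algebraMap R A) := inferInstanceAs (DRing.HasLBaseChange φ)
  refine torAmp_of_exactAt P e a b fun M i hi => ?_
  refine exactAt_of_killed_pow P hPf (RingHom.ker φ) i (fun M hM => ?_) n M (fun x hx m => ?_)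
  · exact exactAt_of_killed (A := A) P hφ (exactAt_of_torAmp (A := A) P e h hi) M hM
  · rw [hn, Ideal.zero_eq_bot, Ideal.mem_bot] at hx
    rw [hx, zero_smul]

include hφ hnil in
theorem isLE_of_nilpotent {b : ℤ} (h : ((DRing.LBaseChange φ).obj K).IsLE b) : K.IsLE b := by
  let _ := φ.toAlgebra
  obtain ⟨n, hn⟩ := hnil
  obtain ⟨P, hP, hPf, ⟨e⟩⟩ := exists_kproj K
  have h1 : DRing.HasLBaseChange (algebraMap R A) := inferInstanceAs (DRing.HasLBaseChange φ)
  refine isLE_of_exactAt P e b fun M i hi => ?_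
  refine exactAt_of_killed_pow P hPf (RingHom.ker φ) i (fun M hM => ?_) n M (fun x hx m => ?_)
  · exact exactAt_of_killed (A := A) P hφ (exactAt_of_isLE (A := A) P e h hi) M hM
  · rw [hn, Ideal.zero_eq_bot, Ideal.mem_bot] at hx
    rw [hx, zero_smul]

end Nil

end K228.TorQuot
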